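import Mathlib

/-!
Elements of `SL₂(q)`, `q` even: involutions, or semisimple of order dividing `q - 1` or `q + 1`.
-/

set_option autoImplicit false

namespace Cfsg.Agent.G2Even

open Matrix Polynomial
open scoped MatrixGroups

variable {F : Type*} [Field F] [Fintype F] [CharP F 2]

theorem sl_sq_eq (A : SL(2, F)) :
    (A : Matrix (Fin 2) (Fin 2) F) * A + (A : Matrix (Fin 2) (Fin 2) F).trace • (A : Matrix (Fin 2) (Fin 2) F) + 1 = 0 := by
  have hd := A.2
  rw [det_fin_two] at hd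
  ext i j
  fin_cases i <;> fin_cases j <;>
    simp [Matrix.mul_apply, Fin.sum_univ_two, trace_fin_two] <;>
    first
      | linear_combination hd + (A.1 0 0 ^ 2 + A.1 0 1 * A.1 1 0 + 1) * (CharTwo.two_eq_zero : (2 : F) = 0)
      | linear_combination (A.1 0 0 * A.1 0 1 + A.1 0 1 * A.1 1 1) * (CharTwo.two_eq_zero : (2 : F) = 0)
      | linear_combination (A.1 1 0 * A.1 0 0 + A.1 1 0 * A.1 1 1) * (CharTwo.two_eq_zero : (2 : F) = 0)
      | linear_combination hd + (A.1 1 1 ^ 2 + A.1 0 1 * A.1 1 0 + 1) * (CharTwo.two_eq_zero : (2 : F) = 0)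

/-- An element of `SL₂(q)` has square `1`, or order dividing `q - 1` or `q + 1`. -/
theorem sl_cases (A : SL(2, F)) :
    A ^ 2 = 1 ∨ A ^ (Fintype.card F - 1) = 1 ∨ A ^ (Fintype.card F + 1) = 1 := by
  classical
  set q := Fintype.card F with hq
  set t := (A : Matrix (Fin 2) (Fin 2) F).trace with ht
  have hsq := sl_sq_eq A
  rw [← ht] at hsq
  by_cases h0 : t = 0
  · refine Or.inl (Subtype.ext ?_)
    rw [h0, zero_smul, add_zero] at hsq
    have h1 : (A : Matrix (Fin 2) (Fin 2) F) * A = 1 :=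
      (eq_neg_of_add_eq_zero_left hsq).trans (Matrix.ext fun i j => CharTwo.neg_eq _)
    simpa [pow_two] using h1
  refine Or.inr ?_
  let k := AlgebraicClosure F
  let f := algebraMap F k
  haveI : CharP k 2 := charP_of_injective_algebraMap f.injective 2
  obtain ⟨μ, hμ⟩ := IsAlgClosed.exists_root (k := k) (X ^ 2 + C (f t) * X + 1 : k[X]) (by
    rw [show (X ^ 2 + C (f t) * X + 1 : k[X]) = C 1 * X ^ 2 + C (f t) * X + C 1 by simp,
      degree_quadratic one_ne_zero]
    decide)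
  simp only [IsRoot.def, eval_add, eval_pow, eval_X, eval_mul, eval_C, eval_one] at hμ
  have hμ0 : μ ≠ 0 := by rintro rfl; simp at hμ
  have hf0 : f t ≠ 0 := (map_ne_zero f).2 h0
  have hsum : μ + μ⁻¹ = f t := by
    apply mul_left_cancel₀ hμ0
    rw [mul_add, mul_inv_cancel₀ hμ0]
    linear_combination hμ - (f t * μ) * (CharTwo.two_eq_zero : (2 : k) = 0)
  have hne : μ ≠ μ⁻¹ := by
    intro e
    rw [← e, CharTwo.add_self_eq_zero] at hsum
    exact hf0 hsum.symm
  have hfac : (X ^ 2 + C (f t) * X + 1 : k[X]) = (X - C μ) * (X - C μ⁻¹) := by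
    have e1 : C (f t) = C μ + C μ⁻¹ := by rw [← C_add, hsum]
    have e2 : C μ * C μ⁻¹ = (1 : k[X]) := by rw [← C_mul, mul_inv_cancel₀ hμ0, C_1]
    rw [e1, CharTwo.sub_eq_add, CharTwo.sub_eq_add]
    linear_combination -e2
  have hco : IsCoprime (X - C μ) (X - C μ⁻¹) :=
    isCoprime_X_sub_C_of_isUnit_sub (IsUnit.mk0 _ (sub_ne_zero.2 hne))
  have key : ∀ n : ℕ, μ ^ n = 1 → A ^ n = 1 := by
    intro n hn
    have h1 : (X - C μ) ∣ (X ^ n - 1 : k[X]) := dvd_iff_isRoot.2 (by simp [hn])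
    have h2 : (X - C μ⁻¹) ∣ (X ^ n - 1 : k[X]) := dvd_iff_isRoot.2 (by simp [hn])
    obtain ⟨P, hP⟩ := hco.mul_dvd h1 h2
    rw [← hfac] at hP
    let M : Matrix (Fin 2) (Fin 2) k := (A : Matrix (Fin 2) (Fin 2) F).map f
    have hM : M * M + f t • M + 1 = 0 := by
      ext i j
      have e := congrArg f (congrFun (congrFun hsq i) j)
      simpa [M, Matrix.mul_apply, Matrix.one_apply, apply_ite f] using e
    have e3 := congrArg (aeval M) hP
    simp only [map_sub, map_pow, aeval_X, map_one, map_mul, map_add, aeval_C, sq,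
      ← Algebra.smul_def] at e3
    rw [hM, zero_mul, sub_eq_zero] at e3
    refine Subtype.ext (Matrix.map_injective f.injective ?_)
    show ((A ^ n : SL(2, F)) : Matrix (Fin 2) (Fin 2) F).map f = (1 : Matrix (Fin 2) (Fin 2) F).map f
    rw [Matrix.SpecialLinearGroup.coe_pow, Matrix.map_pow, Matrix.map_one _ (map_zero f) (map_one f)]
    exact e3
  obtain ⟨n, -, hn⟩ := FiniteField.card F 2
  have hq2 : q = 2 ^ (n : ℕ) := hn
  have hq1 : 1 ≤ q := Fintype.card_pos
  have hroot : μ ^ q + (μ ^ q)⁻¹ = f t := by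
    rw [← inv_pow, hq2, ← add_pow_char_pow, hsum, ← hq2, ← map_pow, hq, FiniteField.pow_card]
  have hcases : μ ^ q = μ ∨ μ ^ q = μ⁻¹ := by
    have hp0 : μ ^ q ≠ 0 := pow_ne_zero _ hμ0
    have e : (μ ^ q + μ) * (μ ^ q + μ⁻¹) = 0 := by
      calc (μ ^ q + μ) * (μ ^ q + μ⁻¹) = μ ^ q * μ ^ q + μ ^ q * (μ + μ⁻¹) + μ * μ⁻¹ := by ring
        _ = μ ^ q * μ ^ q + μ ^ q * (μ ^ q + (μ ^ q)⁻¹) + 1 := by rw [hsum, ← hroot, mul_inv_cancel₀ hμ0]
        _ = 0 := by
          rw [mul_add, mul_inv_cancel₀ hp0]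
          linear_combination (μ ^ q * μ ^ q + 1) * (CharTwo.two_eq_zero : (2 : k) = 0)
    rcases mul_eq_zero.1 e with e | e
    · exact Or.inl (CharTwo.add_eq_zero.1 e)
    · exact Or.inr (CharTwo.add_eq_zero.1 e)
  rcases hcases with e | e
  · refine Or.inl (key _ (mul_right_cancel₀ hμ0 ?_))
    rw [← pow_succ, Nat.sub_add_cancel hq1, e, one_mul]
  · refine Or.inr (key _ ?_)
    rw [pow_succ, e, inv_mul_cancel₀ hμ0]

end Cfsg.Agent.G2Even
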