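import Cfsg.Agent.G2Even.Classes
import Cfsg.Agent.G2Even.SLTwo
import Cfsg.Agent.Chev.Torus
import Cfsg.Agent.Linear.Transvection

/-!
Elements of even order of `G₂(q)`, `q` even, through the centralisers of the two involution classes.
-/

set_option autoImplicit false
set_option linter.unusedSectionVars false
set_option linter.unusedSimpArgs false
set_option linter.style.haveILetI false

namespace Cfsg.Agent.G2Even

open Cfsg.Lie Cfsg.Agent.ChevGrp Matrix
open scoped MatrixGroups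

variable {F : Type*} [Field F] [CharP F 2]

/-- Upper unitriangular. -/
def up (t : F) : SL(2, F) := ⟨!![1, t; 0, 1], by simp [det_fin_two]⟩

/-- Lower unitriangular. -/
def lo (t : F) : SL(2, F) := ⟨!![1, 0; t, 1], by simp [det_fin_two]⟩

theorem sl_ind (P : SL(2, F) → Prop) (hu : ∀ t, P (up t)) (hl : ∀ t, P (lo t))
    (hm : ∀ A B, P A → P B → P (A * B)) (A : SL(2, F)) : P A := by
  refine Cfsg.Agent.Linear.transvection_induction P (fun i j hij c => ?_) hm A
  fin_cases i <;> fin_cases j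
  · exact absurd rfl hij
  · convert hu c using 1
    refine Subtype.ext (Matrix.ext fun a b => ?_)
    fin_cases a <;> fin_cases b <;> simp [up, Matrix.SpecialLinearGroup.transvection_coe, Matrix.single_apply]
  · convert hl c using 1
    refine Subtype.ext (Matrix.ext fun a b => ?_)
    fin_cases a <;> fin_cases b <;> simp [lo, Matrix.SpecialLinearGroup.transvection_coe, Matrix.single_apply]
  · exact absurd rfl hij

/-- The entrywise square of a matrix. -/
def fr (A : Matrix (Fin 2) (Fin 2) F) : Matrix (Fin 2) (Fin 2) F := A.map (frobenius F 2)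

theorem fr_mul (A B : Matrix (Fin 2) (Fin 2) F) : fr (A * B) = fr A * fr B := Matrix.map_mul

section Abstract

variable {G : Type*} [Group G] (S : Sys chevG2 F G)

/-- The element of the radical of the long root parabolic with coordinate matrix `V`. -/
def elV (V : Matrix (Fin 2) (Fin 2) F) (k : F) : G := el S 0 (V 1 1) (V 0 1) (V 1 0) (V 0 0) k

theorem elV_mul (V W : Matrix (Fin 2) (Fin 2) F) (k l : F) :
    elV S V k * elV S W l = elV S (V + W) (W 0 1 * V 1 0 + W 1 1 * V 0 0 + (k + l)) := by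
  simp only [elV, el_mul, Matrix.add_apply]
  congr 1 <;> simp <;> ring

theorem elV_zero : elV S 0 0 = (1 : G) := by simp [elV, el_zero]

theorem elV_add_self (V : Matrix (Fin 2) (Fin 2) F) : V + V = 0 :=
  Matrix.ext fun _ _ => CharTwo.add_self_eq_zero _

theorem elV_sq (V : Matrix (Fin 2) (Fin 2) F) (k : F) :
    elV S V k ^ 2 = elV S 0 V.det := by
  rw [pow_two, elV_mul, elV_add_self, CharTwo.add_self_eq_zero, det_fin_two, CharTwo.sub_eq_add]
  congr 1
  ring

theorem elV_pow_four (V : Matrix (Fin 2) (Fin 2) F) (k : F) : elV S V k ^ 4 = 1 := by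
  rw [show 4 = 2 * 2 from rfl, pow_mul, elV_sq, elV_sq, Matrix.det_zero, elV_zero]

theorem exists_elV_inv (V : Matrix (Fin 2) (Fin 2) F) (k : F) : ∃ W l, (elV S V k)⁻¹ = elV S W l := by
  have e : (elV S V k)⁻¹ = elV S V k * elV S V k * elV S V k := by
    rw [inv_eq_iff_mul_eq_one, ← elV_pow_four S V k]
    simp [pow_succ, mul_assoc]
  rw [elV_mul, elV_mul] at e
  exact ⟨_, _, e⟩

variable {S} in
theorem elV_inj {len : ℕ → ℕ} (hR : RootTable chevG2 len) {V W : Matrix (Fin 2) (Fin 2) F} {k l : F}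
    (h : elV S V k = elV S W l) : V = W ∧ k = l := by
  obtain ⟨-, h1, h2, h3, h4, h5⟩ := el_inj hR h
  exact ⟨Matrix.ext fun i j => by fin_cases i <;> fin_cases j <;> assumption, h5⟩

theorem conj_lo {s : ℕ} (r : ℕ) (hr : r < 12) (hs : s < 12) (hne : s ≠ r) (hneg : s ≠ chevG2.neg r)
    {L : List (ℕ × ℤ × ℕ × ℕ)} (hL : chevG2.commTerms r s = L) (t u : F) :
    S.x r t * S.x s u =
      (S.x s u * (L.map fun c => S.x c.1 (((c.2.1 : ℤ) : F) * t ^ c.2.2.1 * u ^ c.2.2.2)).prod) * S.x r t := by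
  have h := swap_aux S hr hs hne hneg hL t u
  have h2 : S.x r t * S.x r t = 1 := by
    rw [x_mul S r hr, CharTwo.add_self_eq_zero, S.x_zero hr]
  calc S.x r t * S.x s u = S.x r t * (S.x s u * S.x r t) * S.x r t := by
        rw [mul_assoc, mul_assoc, h2, mul_one]
    _ = _ := by rw [h, ← mul_assoc, ← mul_assoc, h2, one_mul]

theorem x7_law (t : F) (V : Matrix (Fin 2) (Fin 2) F) (k : F) :
    ∃ k', S.x 7 t * elV S V k = elV S ((up t).1 * V * (fr (up t).1)ᵀ) k' * S.x 7 t := by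
  have z : ∀ r, r < chevG2.nroots → S.x r 0 = 1 := fun r hr => S.x_zero hr
  have e : S.x 7 t = el S t 0 0 0 0 0 := by
    simp [el, z 6 (by decide), z 8 (by decide), z 9 (by decide), z 10 (by decide), z 11 (by decide)]
  refine ⟨k + ((V 0 1 + t * V 1 1) * t ^ 2 * V 1 1 + t ^ 3 * V 1 1 ^ 2 + t * (V 0 1 + t * V 1 1) ^ 2), ?_⟩
  rw [e]
  simp only [elV, el_mul]
  congr 1 <;> simp [up, fr, Matrix.mul_apply, Fin.sum_univ_two, frobenius_def, Matrix.vecMul, dotProduct] <;>
    grind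

theorem x4_law (t : F) (V : Matrix (Fin 2) (Fin 2) F) (k : F) :
    ∃ k', S.x 4 t * elV S V k = elV S ((lo t).1 * V * (fr (lo t).1)ᵀ) k' * S.x 4 t := by
  have z : ∀ r, r < chevG2.nroots → S.x r 0 = 1 := fun r hr => S.x_zero hr
  have z7 := z 7 (by decide)
  have z6 := z 6 (by decide)
  have z8 := z 8 (by decide)
  have z9 := z 9 (by decide)
  have z10 := z 10 (by decide)
  have z11 := z 11 (by decide)
  have h6 : ∀ u, S.x 4 t * S.x 6 u = el S 0 u 0 0 0 0 * S.x 4 t := fun u => by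
    rw [conj_lo S 4 (by norm_num) (by norm_num) (by norm_num) (by decide +kernel) (L := [])
      (by decide +kernel) t u]
    simp [el, z7, z6, z8, z9, z10, z11]
  have h11 : ∀ u, S.x 4 t * S.x 11 u = el S 0 0 0 0 0 u * S.x 4 t := fun u => by
    rw [conj_lo S 4 (by norm_num) (by norm_num) (by norm_num) (by decide +kernel) (L := [])
      (by decide +kernel) t u]
    simp [el, z7, z6, z8, z9, z10, z11]
  have h8 : ∀ u, S.x 4 t * S.x 8 u = el S 0 0 u 0 0 0 * el S 0 (t * u) 0 0 0 0 * S.x 4 t := fun u => by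
    rw [conj_lo S 4 (by norm_num) (by norm_num) (by norm_num) (by decide +kernel) (L := [(6, -3, 1, 1)])
      (by decide +kernel) t u]
    simp [el, z7, z6, z8, z9, z10, z11, CharTwo.neg_eq,
      show (3 : F) = 1 by linear_combination (CharTwo.two_eq_zero : (2 : F) = 0)]
  have h9 : ∀ u, S.x 4 t * S.x 9 u =
      el S 0 0 0 u 0 0 * el S 0 (t ^ 2 * u) 0 0 0 (t * u ^ 2) * S.x 4 t := fun u => by
    rw [conj_lo S 4 (by norm_num) (by norm_num) (by norm_num) (by decide +kernel)
      (L := [(8, -2, 1, 1), (6, 3, 2, 1), (11, -3, 1, 2)]) (by decide +kernel) t u]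
    simp [el, z7, z6, z8, z9, z10, z11, CharTwo.neg_eq, CharTwo.two_eq_zero, mul_assoc,
      show (3 : F) = 1 by linear_combination (CharTwo.two_eq_zero : (2 : F) = 0)]
  have h10 : ∀ u, S.x 4 t * S.x 10 u =
      el S 0 0 0 0 u 0 * el S 0 0 0 (t * u) 0 0 * el S 0 0 (t ^ 2 * u) 0 0 0 *
        el S 0 (t ^ 3 * u) 0 0 0 (t ^ 3 * u ^ 2) * S.x 4 t := fun u => by
    rw [conj_lo S 4 (by norm_num) (by norm_num) (by norm_num) (by decide +kernel)
      (L := [(9, 1, 1, 1), (8, -1, 2, 1), (6, 1, 3, 1), (11, -1, 3, 2)]) (by decide +kernel) t u]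
    simp [el, z7, z6, z8, z9, z10, z11, CharTwo.neg_eq, CharTwo.two_eq_zero, mul_assoc,
      show (3 : F) = 1 by linear_combination (CharTwo.two_eq_zero : (2 : F) = 0)]
  have e : S.x 4 t * elV S V k =
      el S 0 (V 1 1) 0 0 0 0 * (el S 0 0 (V 0 1) 0 0 0 * el S 0 (t * V 0 1) 0 0 0 0) *
      (el S 0 0 0 (V 1 0) 0 0 * el S 0 (t ^ 2 * V 1 0) 0 0 0 (t * V 1 0 ^ 2)) *
      (el S 0 0 0 0 (V 0 0) 0 * el S 0 0 0 (t * V 0 0) 0 0 * el S 0 0 (t ^ 2 * V 0 0) 0 0 0 *
        el S 0 (t ^ 3 * V 0 0) 0 0 0 (t ^ 3 * V 0 0 ^ 2)) * el S 0 0 0 0 0 k * S.x 4 t := by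
    rw [elV, el, z7, one_mul, assoc_swap (h6 _)]
    simp only [mul_assoc]
    rw [assoc_swap (h8 _)]
    simp only [mul_assoc]
    rw [assoc_swap (h9 _)]
    simp only [mul_assoc]
    rw [assoc_swap (h10 _)]
    simp only [mul_assoc]
    rw [h11]
  rw [e]
  simp only [el_mul]
  refine ⟨?_, congrArg (· * S.x 4 t) ?_⟩
  swap
  · simp only [elV]
    congr 1 <;> simp [lo, fr, Matrix.mul_apply, Fin.sum_univ_two, frobenius_def, Matrix.vecMul, dotProduct]
    all_goals first
      | rfl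
      | ring

variable {φ : SL(2, F) →* G} (hu : ∀ t, φ (up t) = S.x 7 t) (hl : ∀ t, φ (lo t) = S.x 4 t)

include hu hl

theorem phi_law (A : SL(2, F)) : ∀ V k, ∃ k', φ A * elV S V k = elV S (A.1 * V * (fr A.1)ᵀ) k' * φ A := by
  refine sl_ind (fun A => ∀ V k, ∃ k', φ A * elV S V k = elV S (A.1 * V * (fr A.1)ᵀ) k' * φ A)
    (fun t V k => ?_) (fun t V k => ?_) (fun A B hA hB V k => ?_) A
  · rw [hu]; exact x7_law S t V k
  · rw [hl]; exact x4_law S t V k
  · obtain ⟨k₁, e₁⟩ := hB V k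
    obtain ⟨k₂, e₂⟩ := hA (B.1 * V * (fr B.1)ᵀ) k₁
    refine ⟨k₂, ?_⟩
    rw [map_mul, mul_assoc, e₁, ← mul_assoc, e₂, Matrix.SpecialLinearGroup.coe_mul, fr_mul,
      Matrix.transpose_mul]
    simp only [mul_assoc]

theorem phi_comm_top (A : SL(2, F)) (k : F) : φ A * elV S 0 k = elV S 0 k * φ A := by
  have e : elV S 0 k = S.x 11 k := by
    simp [elV, el, S.x_zero (show 7 < chevG2.nroots by decide), S.x_zero (show 6 < chevG2.nroots by decide),
      S.x_zero (show 8 < chevG2.nroots by decide), S.x_zero (show 9 < chevG2.nroots by decide),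
      S.x_zero (show 10 < chevG2.nroots by decide)]
  rw [e]
  refine sl_ind (fun A => φ A * S.x 11 k = S.x 11 k * φ A) (fun t => ?_) (fun t => ?_) (fun A B hA hB => ?_) A
  · rw [hu]; exact (swapT7_11 S t k).symm
  · rw [hl, conj_lo S 4 (by norm_num) (by norm_num) (by norm_num) (by decide +kernel) (L := [])
      (by decide +kernel) t k]
    simp
  · rw [map_mul, mul_assoc, hB, ← mul_assoc, hA, mul_assoc]

theorem phi_inj {len : ℕ → ℕ} (hR : RootTable chevG2 len) (A : SL(2, F)) (W : Matrix (Fin 2) (Fin 2) F)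
    (j : F) (h : φ A = elV S W j) : A = 1 := by
  have key : ∀ V : Matrix (Fin 2) (Fin 2) F, A.1 * V * (fr A.1)ᵀ = V := fun V => by
    obtain ⟨k', e⟩ := phi_law S hu hl A V 0
    rw [h, elV_mul, elV_mul] at e
    have e' := (elV_inj hR e).1
    rw [add_comm _ W] at e'
    exact (add_left_cancel e').symm
  have e00 := key !![1, 0; 0, 0]
  have e11 := key !![0, 0; 0, 1]
  have e01 := key !![0, 1; 0, 0]
  have hd := A.2
  rw [det_fin_two] at hd
  have p1 := congrFun (congrFun e00 0) 0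
  have p2 := congrFun (congrFun e00 1) 1
  have p3 := congrFun (congrFun e11 0) 0
  have p4 := congrFun (congrFun e11 1) 1
  have p5 := congrFun (congrFun e01 0) 1
  simp [fr, Matrix.mul_apply, Fin.sum_univ_two, frobenius_def] at p1 p2 p3 p4 p5
  have hb : A.1 0 1 = 0 := p3
  have hc : A.1 1 0 = 0 := p2
  rw [hb, hc, mul_zero, sub_zero] at hd
  have h1 : A.1 1 1 = 1 := by linear_combination p5 - A.1 1 1 * hd
  have h0 : A.1 0 0 = 1 := by rw [h1, mul_one] at hd; exact hd
  refine Subtype.ext (Matrix.ext fun i k => ?_)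
  fin_cases i <;> fin_cases k <;> simp [hb, hc, h0, h1]

/-- Powers in the semidirect product. -/
theorem exists_pow (V : Matrix (Fin 2) (Fin 2) F) (k : F) (A : SL(2, F)) :
    ∀ n : ℕ, ∃ W l, (elV S V k * φ A) ^ n = elV S W l * φ (A ^ n)
  | 0 => ⟨0, 0, by simp [elV_zero]⟩
  | n + 1 => by
    obtain ⟨W, l, e⟩ := exists_pow V k A n
    obtain ⟨l', e'⟩ := phi_law S hu hl A W l
    obtain ⟨W', l'', e''⟩ : ∃ W' l'', elV S V k * elV S (A.1 * W * (fr A.1)ᵀ) l' = elV S W' l'' :=
      ⟨_, _, elV_mul S _ _ _ _⟩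
    refine ⟨W', l'', ?_⟩
    rw [pow_succ', e, mul_assoc, ← mul_assoc (φ A), e', mul_assoc, ← map_mul, ← pow_succ', ← mul_assoc, e'']

/-- An element of the centraliser of a long root involution has small order. -/
theorem long_case {len : ℕ → ℕ} (hR : RootTable chevG2 len) [Fintype F] (V : Matrix (Fin 2) (Fin 2) F)
    (k : F) (A : SL(2, F)) :
    (elV S V k * φ A) ^ 8 = 1 ∨ (elV S V k * φ A) ^ 12 = 1 ∨
      (elV S V k * φ A) ^ (2 * (Fintype.card F - 1)) = 1 ∨
      (elV S V k * φ A) ^ (2 * (Fintype.card F + 1)) = 1 := by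
  set g := elV S V k * φ A with hg
  have four : ∀ n, A ^ n = 1 → g ^ (4 * n) = 1 := fun n hn => by
    obtain ⟨W, l, e⟩ := exists_pow S hu hl V k A n
    rw [mul_comm, pow_mul, hg, e, hn, map_one, mul_one, elV_pow_four]
  have two : ∀ n, A ^ n = 1 → g ^ (2 * n) = 1 ∨ A ^ 2 = 1 ∨ A ^ 3 = 1 := fun n hn => by
    obtain ⟨W, l, e⟩ := exists_pow S hu hl V k A n
    rw [hn, map_one, mul_one] at e
    by_cases hd : W.det = 0
    · left; rw [mul_comm, pow_mul, hg, e, elV_sq, hd, elV_zero]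
    right
    have hc : g * elV S W l = elV S W l * g := by rw [← e]; exact (pow_mul_comm' g n).symm
    obtain ⟨l', e'⟩ := phi_law S hu hl A W l
    rw [hg, mul_assoc, e', ← mul_assoc, ← mul_assoc, elV_mul, elV_mul] at hc
    have hfix : A.1 * W * (fr A.1)ᵀ = W := by
      have h := (elV_inj hR (mul_right_cancel hc)).1
      rw [add_comm W V] at h
      exact add_left_cancel h
    have hdN : (fr A.1)ᵀ.det = 1 := by
      rw [det_transpose, fr, ← RingHom.mapMatrix_apply, ← RingHom.map_det, A.2, map_one]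
    have hW : IsUnit W.det := IsUnit.mk0 _ hd
    have hAW : A.1 * W = W * (fr A.1)ᵀ.adjugate := by
      conv_rhs => rw [← hfix]
      rw [mul_assoc _ _ (adjugate _), mul_adjugate, hdN, one_smul, mul_one]
    have htr : A.1.trace = A.1.trace ^ 2 := by
      have hA : A.1 = W * (fr A.1)ᵀ.adjugate * W⁻¹ := by
        rw [← hAW, Matrix.mul_nonsing_inv_cancel_right _ _ hW]
      calc A.1.trace = ((fr A.1)ᵀ.adjugate).trace := by
            conv_lhs => rw [hA, Matrix.trace_mul_cycle, Matrix.nonsing_inv_mul _ hW, one_mul]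
        _ = _ := by
            simp [adjugate_fin_two, trace_fin_two, fr, frobenius_def, CharTwo.add_sq, add_comm]
    have hsq := sl_sq_eq A
    have h01 : A.1.trace = 0 ∨ A.1.trace = 1 := by
      have : A.1.trace * (A.1.trace - 1) = 0 := by linear_combination -htr
      exact (mul_eq_zero.1 this).imp id sub_eq_zero.1
    rcases h01 with h | h
    · left
      rw [h, zero_smul, add_zero] at hsq
      refine Subtype.ext ?_
      rw [Matrix.SpecialLinearGroup.coe_pow, pow_two, eq_neg_of_add_eq_zero_left hsq]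
      exact Matrix.ext fun i j => CharTwo.neg_eq _
    · right
      rw [h, one_smul] at hsq
      refine Subtype.ext ?_
      rw [Matrix.SpecialLinearGroup.coe_pow]
      have : A.1 ^ 3 - 1 = (A.1 - 1) * (A.1 * A.1 + A.1 + 1) := by noncomm_ring
      rw [hsq, mul_zero, sub_eq_zero] at this
      exact this
  rcases sl_cases A with h | h | h
  · exact Or.inl (four 2 h)
  · rcases two _ h with h' | h' | h'
    · exact Or.inr (Or.inr (Or.inl h'))
    · exact Or.inl (four 2 h')
    · exact Or.inr (Or.inl (four 3 h'))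
  · rcases two _ h with h' | h' | h'
    · exact Or.inr (Or.inr (Or.inr h'))
    · exact Or.inl (four 2 h')
    · exact Or.inr (Or.inl (four 3 h'))

omit hu hl in
theorem exists_order_eight {len : ℕ → ℕ} (hR : RootTable chevG2 len) :
    orderOf (el S 1 1 0 0 0 0 : G) = 8 := by
  haveI : Fact (Nat.Prime 2) := ⟨Nat.prime_two⟩
  have h2 : ∃ W l, el S 1 1 0 0 0 0 ^ 2 = elV S W l ∧ W.det = 1 := by
    rw [pow_two, el_mul]
    refine ⟨!![1, 1; 1, 0], 0, ?_, ?_⟩
    · simp [elV, CharTwo.add_self_eq_zero]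
    · simp [det_fin_two, CharTwo.neg_eq]
  obtain ⟨W, l, e, hd⟩ := h2
  have e4 : el S 1 1 0 0 0 0 ^ 4 = elV S 0 1 := by rw [show 4 = 2 * 2 from rfl, pow_mul, e, elV_sq, hd]
  rw [show 8 = 2 ^ (2 + 1) from rfl]
  refine orderOf_eq_prime_pow ?_ ?_
  · show ¬ el S 1 1 0 0 0 0 ^ 4 = 1
    rw [e4, ← elV_zero S]
    exact fun h => one_ne_zero (elV_inj hR h).2
  · show el S 1 1 0 0 0 0 ^ 8 = 1
    rw [show 8 = 4 * 2 from rfl, pow_mul, e4, elV_sq, Matrix.det_zero, elV_zero]

/-- An element of order twelve. -/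
theorem exists_order_twelve {len : ℕ → ℕ} (hR : RootTable chevG2 len) :
    ∃ V k A, orderOf (elV S V k * φ A) = 12 := by
  let A : SL(2, F) := lo 1 * up 1
  have hA : A.1 = !![1, 1; 1, 0] := by
    show (lo (1 : F)).1 * (up (1 : F)).1 = _
    ext i j
    fin_cases i <;> fin_cases j <;>
      simp [lo, up, Matrix.mul_apply, Fin.sum_univ_two, CharTwo.add_self_eq_zero]
  have hA3 : A ^ 3 = 1 := by
    refine Subtype.ext ?_
    rw [Matrix.SpecialLinearGroup.coe_pow, hA]
    ext i j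
    fin_cases i <;> fin_cases j <;>
      simp [pow_succ, Matrix.mul_apply, Fin.sum_univ_two, CharTwo.add_self_eq_zero]
  have hA1 : A ≠ 1 := fun h => one_ne_zero (α := F) (by
    have := congrArg (fun B : SL(2, F) => B.1 0 1) h
    simp [hA] at this)
  let V : Matrix (Fin 2) (Fin 2) F := !![0, 1; 1, 0]
  have hfix : A.1 * V * (fr A.1)ᵀ = V := by
    rw [hA]
    ext i j
    fin_cases i <;> fin_cases j <;>
      simp [V, fr, Matrix.mul_apply, Fin.sum_univ_two, CharTwo.add_self_eq_zero, frobenius_def]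
  refine ⟨V, 0, A, ?_⟩
  set g := elV S V 0 * φ A with hg
  obtain ⟨W, l, e3, hW⟩ : ∃ W l, g ^ 3 = elV S W l ∧ W.det = 1 := by
    obtain ⟨k₁, e₁⟩ := phi_law S hu hl A V 0
    obtain ⟨k₂, e₂⟩ := phi_law S hu hl A V k₁
    rw [hfix] at e₁ e₂
    obtain ⟨l, hl'⟩ : ∃ l, elV S V 0 * elV S V k₁ * elV S V k₂ = elV S V l :=
      ⟨_, by rw [elV_mul, elV_mul, elV_add_self, zero_add]⟩
    refine ⟨V, l, ?_, by simp [V, det_fin_two, CharTwo.neg_eq]⟩
    calc g ^ 3 = elV S V 0 * (φ A * elV S V 0) * (φ A * elV S V 0) * φ A := by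
          simp [hg, pow_succ, mul_assoc]
      _ = elV S V 0 * elV S V k₁ * φ A * (elV S V k₁ * φ A) * φ A := by rw [e₁]; simp [mul_assoc]
      _ = elV S V 0 * elV S V k₁ * (φ A * elV S V k₁) * φ A * φ A := by simp [mul_assoc]
      _ = elV S V 0 * elV S V k₁ * elV S V k₂ * φ (A ^ 3) := by
          rw [e₂]; simp [pow_succ, mul_assoc]
      _ = _ := by rw [hA3, map_one, mul_one, hl']
  have h12 : g ^ 12 = 1 := by rw [show 12 = 3 * 4 from rfl, pow_mul, e3, elV_pow_four]
  have h6 : g ^ 6 ≠ 1 := by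
    rw [show 6 = 3 * 2 from rfl, pow_mul, e3, elV_sq, hW, ← elV_zero S]
    exact fun h => one_ne_zero (elV_inj hR h).2
  have h4 : g ^ 4 ≠ 1 := by
    obtain ⟨W', l', e⟩ := exists_pow S hu hl V 0 A 4
    rw [pow_succ A 3, hA3, one_mul] at e
    intro h
    rw [hg, e] at h
    obtain ⟨W'', l'', e''⟩ := exists_elV_inv S W' l'
    exact hA1 (phi_inj S hu hl hR A W'' l'' (by rw [← e'', eq_inv_of_mul_eq_one_right h]))
  have hd := orderOf_dvd_of_pow_eq_one h12
  have hmem : orderOf g ∈ Nat.divisors 12 := Nat.mem_divisors.2 ⟨hd, by norm_num⟩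
  have h6' : ¬ orderOf g ∣ 6 := fun h => h6 (orderOf_dvd_iff_pow_eq_one.1 h)
  have h4' : ¬ orderOf g ∣ 4 := fun h => h4 (orderOf_dvd_iff_pow_eq_one.1 h)
  revert hmem h6' h4'
  generalize orderOf g = n
  intro hmem
  fin_cases hmem <;> norm_num

/-- Elements of order twice that of a torus element of `SL₂`. -/
theorem exists_order_double {len : ℕ → ℕ} (hR : RootTable chevG2 len) (A : SL(2, F))
    (hA : ¬ 2 ∣ orderOf A) : orderOf (elV S 0 1 * φ A) = 2 * orderOf A := by
  haveI : Fact (Nat.Prime 2) := ⟨Nat.prime_two⟩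
  have hinj : Function.Injective φ := (injective_iff_map_eq_one φ).2 fun B hB =>
    phi_inj S hu hl hR B 0 0 (by rw [hB, elV_zero])
  have h2 : orderOf (elV S 0 (1 : F)) = 2 := by
    refine orderOf_eq_prime (by rw [elV_sq, Matrix.det_zero, elV_zero]) ?_
    rw [← elV_zero S]
    exact fun h => one_ne_zero (elV_inj hR h).2
  have hc : Commute (elV S 0 (1 : F)) (φ A) := (phi_comm_top S hu hl A 1).symm
  rw [hc.orderOf_mul_eq_mul_orderOf_of_coprime, h2, orderOf_injective φ hinj]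
  rw [h2, orderOf_injective φ hinj]
  exact (Nat.prime_two.coprime_iff_not_dvd).2 hA

end Abstract

end Cfsg.Agent.G2Even
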