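import Cfsg.Agent.G2Even.ToriFix

/-!
Orders of elements of odd order of `G₂(q)`, `q` even: divisors of the twelve torus exponents.
-/

set_option autoImplicit false
set_option linter.style.haveILetI false
set_option linter.unusedSectionVars false

namespace Cfsg.Agent.G2Even

open Cfsg.Lie Cfsg.Agent.ChevGrp Cfsg.Agent.Lang Matrix
open scoped MatrixGroups

variable (F : Type*) [Field F] [Fintype F] [CharP F 2]

/-- The embedding into the group over the algebraic closure. -/
noncomputable def emb : ↥(chevG2.group F) →* GL chevG2.Idx (AlgebraicClosure F) :=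
  (Matrix.GeneralLinearGroup.map (n := chevG2.Idx) (algebraMap F (AlgebraicClosure F))).comp
    (chevG2.group F).subtype

theorem emb_injective : Function.Injective (emb F) :=
  (glMap_injective chevG2 (algebraMap F (AlgebraicClosure F))).comp Subtype.val_injective

variable {F} {len : ℕ → ℕ} (hS : Rules chevG2 (AlgebraicClosure F)) (hR : RootTable chevG2 len)

include hS hR

/-- For each index a conjugate of the torus inside the finite group. -/
theorem exists_torus_image (i : Fin 12) :
    ∃ a ∈ chevG2.group (AlgebraicClosure F),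
      ∀ c : Fin chevG2.rank → (AlgebraicClosure F)ˣ, mact (wmt i) c ^ Fintype.card F = c →
        ∃ g, emb F g = a * tauC hS hR c * a⁻¹ := by
  classical
  have hF : Rules chevG2 F := Cfsg.Agent.Chev.validG2.rules Cfsg.Agent.Chev.lenValidG2 F
  obtain ⟨q, hq⟩ : ∃ q, Fintype.card F = q := ⟨_, rfl⟩
  rw [hq]
  obtain ⟨φ, hφ⟩ : ∃ φ : AlgebraicClosure F →+* AlgebraicClosure F, ∀ x, φ x = x ^ q :=
    ⟨(FiniteField.frobeniusAlgHom F (AlgebraicClosure F)).toRingHom, fun x => by rw [← hq]; rfl⟩
  have hq2 : 2 ≤ q := hq ▸ Fintype.one_lt_card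
  have hfix : ∀ a, φ a = a → ∃ b, algebraMap F (AlgebraicClosure F) b = a := by
    intro a ha
    rw [hφ] at ha
    set f := algebraMap F (AlgebraicClosure F)
    have hne : (Polynomial.X ^ q - Polynomial.X : Polynomial (AlgebraicClosure F)) ≠ 0 :=
      FiniteField.X_pow_card_sub_X_ne_zero _ (by omega)
    have hsub : Finset.univ.image f ⊆ (Polynomial.X ^ q - Polynomial.X : Polynomial (AlgebraicClosure F)).roots.toFinset := by
      intro b hb
      obtain ⟨c, -, rfl⟩ := Finset.mem_image.1 hb
      rw [Multiset.mem_toFinset, Polynomial.mem_roots hne]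
      simp [← map_pow, ← hq, FiniteField.pow_card]
    have hcard : (Polynomial.X ^ q - Polynomial.X : Polynomial (AlgebraicClosure F)).roots.toFinset.card ≤
        (Finset.univ.image f).card := by
      rw [Finset.card_image_of_injective _ f.injective, Finset.card_univ, hq]
      refine (Multiset.toFinset_card_le _).trans ((Polynomial.card_roots' _).trans ?_)
      rw [FiniteField.X_pow_card_sub_X_natDegree_eq _ (by omega)]
    have hmem : a ∈ Finset.univ.image f := by
      rw [Finset.eq_of_subset_of_card_le hsub hcard, Multiset.mem_toFinset, Polynomial.mem_roots hne]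
      simp [ha]
    obtain ⟨b, -, hb⟩ := Finset.mem_image.1 hmem
    exact ⟨b, hb⟩
  obtain ⟨n, hndef⟩ : ∃ n, n = (glSys hS).nW (wwd i) := ⟨_, rfl⟩
  have hnG : n ∈ chevG2.group (AlgebraicClosure F) := by
    rw [group_eq hS, (glSys hS).Gbar_eq hR hS, hndef]
    exact Subgroup.mem_sup_right ((glSys hS).nW_mem_Nbar _)
  obtain ⟨a, ha, han⟩ := exists_lang_chev hS hR φ q hq2 hφ hnG
  refine ⟨a, ha, fun c hc => ?_⟩
  have htau : tauC hS hR c ∈ chevG2.group (AlgebraicClosure F) := by
    rw [group_eq hS, (glSys hS).Gbar_eq hR hS]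
    exact Subgroup.mem_sup_left ((glSys hS).Hbar_le_Bbar (tauC_mem hS hR c))
  have hμtau : Matrix.GeneralLinearGroup.map (n := chevG2.Idx) φ (tauC hS hR c) = tauC hS hR (c ^ q) := by
    rw [tauC, Chev.FieldFix.map_tau hS hS hR φ c]
    congr 1
    funext j
    exact Units.ext (by simp [hφ])
  obtain ⟨g, hg, e⟩ := Chev.FieldFix.fixed_mem_map hS hF hR unimodular φ
    (algebraMap F (AlgebraicClosure F)) hfix (g := a * tauC hS hR c * a⁻¹)
    (mul_mem (mul_mem ha htau) (inv_mem ha)) (by
      rw [map_mul, map_mul, map_inv, hμtau, show Matrix.GeneralLinearGroup.map (n := chevG2.Idx) φ a = a * n by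
        rw [han, mul_inv_cancel_left], mul_assoc a n, hndef, nW_tau hS hR (wmt_word i), mact_npow, hc]
      simp [mul_assoc])
  exact ⟨⟨g, hg⟩, e⟩

theorem orderOf_image {a : GL chevG2.Idx (AlgebraicClosure F)} {c : Fin chevG2.rank → (AlgebraicClosure F)ˣ}
    {g : ↥(chevG2.group F)} (e : emb F g = a * tauC hS hR c * a⁻¹) : orderOf g = orderOf c := by
  rw [← orderOf_injective (emb F) (emb_injective F), e, ← MulAut.conj_apply, MulEquiv.orderOf_eq,
    orderOf_injective _ (tauC_injective hS hR unimodular)]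

omit hS hR in
theorem even_card : 2 ∣ Fintype.card F := (CharP.cast_eq_zero_iff F 2 _).1 (FiniteField.cast_card_eq_zero F)

/-- Elements of orders equal to the exponents of the cyclic tori. -/
theorem exists_order_torus (T : TorusData chevG2) (i : Fin 12) (hM : T.M = wmt i)
    (hN : (T.ord (Fintype.card F)).natAbs = expo (Fintype.card F) i) :
    ∃ g : ↥(chevG2.group F), orderOf g = expo (Fintype.card F) i := by
  haveI : CharP (AlgebraicClosure F) 2 := charP_of_injective_algebraMap (algebraMap F _).injective 2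
  obtain ⟨c, hc, ho⟩ := exists_cx_order T (Fintype.card F) (k := AlgebraicClosure F)
    (hN ▸ cast_expo_ne_zero _ even_card Fintype.card_pos i)
  obtain ⟨a, -, h⟩ := exists_torus_image hS hR i
  obtain ⟨g, hg⟩ := h c (hM ▸ hc)
  exact ⟨g, by rw [orderOf_image hS hR hg, ho, hN]⟩

/-- The order of an element of odd order divides a torus exponent. -/
theorem odd_order_dvd (g : ↥(chevG2.group F)) (hg : ¬ 2 ∣ orderOf g) :
    ∃ i, orderOf g ∣ expo (Fintype.card F) i := by
  classical
  haveI : Fact (Nat.Prime 2) := ⟨Nat.prime_two⟩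
  haveI : CharP (AlgebraicClosure F) 2 := charP_of_injective_algebraMap (algebraMap F _).injective 2
  set q := Fintype.card F with hq
  have hq1 : 1 ≤ q := Fintype.card_pos
  have hq2 : 2 ∣ q := even_card
  choose a ha him using exists_torus_image (F := F) hS hR
  let el : (Σ i, Fx (AlgebraicClosure F) q i) → ↥(chevG2.group F) := fun p => (him p.1 p.2.1 p.2.2).choose
  have hel : ∀ p, emb F (el p) = a p.1 * tauC hS hR p.2.1 * (a p.1)⁻¹ := fun p =>
    (him p.1 p.2.1 p.2.2).choose_spec
  have hreg : ∀ p, ¬ 2 ∣ orderOf (el p) := by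
    intro p hd
    rw [orderOf_image hS hR (hel p)] at hd
    have h := hd.trans (orderOf_dvd_of_pow_eq_one (fx_pow q hq1 p.1 p.2.1 p.2.2))
    exact cast_expo_ne_zero q hq2 hq1 p.1 ((CharP.cast_eq_zero_iff (AlgebraicClosure F) 2 _).2 h)
  let Cls := {c : ConjClasses ↥(chevG2.group F) // ∃ g : ↥(chevG2.group F), ConjClasses.mk g = c ∧ ¬ 2 ∣ orderOf g}
  let Φ : (Σ i, Fx (AlgebraicClosure F) q i) → Cls := fun p => ⟨ConjClasses.mk (el p), el p, rfl, hreg p⟩
  haveI : ∀ i, Finite (Fx (AlgebraicClosure F) q i) := fun i => Nat.finite_of_card_ne_zero (by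
    rw [card_fx q hq2 hq1 i]
    have := cast_expo_ne_zero (k := AlgebraicClosure F) q hq2 hq1 i
    have h0 : expo q i ≠ 0 := fun h => this (by rw [h, Nat.cast_zero])
    unfold fxSize
    split_ifs
    · exact pow_ne_zero _ h0
    · exact h0)
  letI : Fintype (Σ i, Fx (AlgebraicClosure F) q i) := Fintype.ofFinite _
  haveI : Finite ↥(chevG2.group F) := inferInstance
  letI : Fintype Cls := Fintype.ofFinite _
  -- the fibres
  choose iv hiv using wmt_inv
  choose mu hmu using wmt_mul
  let U : Fin 12 → (Matrix (Fin chevG2.rank) (Fin chevG2.rank) ℤ)ˣ := fun i =>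
    ⟨wmt i, wmt (iv i), (hiv i).2, (hiv i).1⟩
  have hfib : ∀ p₀, (Finset.univ.filter fun p => Φ p = Φ p₀).card ≤ 12 := by
    intro p₀
    let P : (Fin chevG2.rank → (AlgebraicClosure F)ˣ) → Fin 12 → Prop := fun c j => mact (wmt j) p₀.2.1 = c
    let uc : (Fin chevG2.rank → (AlgebraicClosure F)ˣ) → Fin 12 := fun c => if h : ∃ j, P c j then h.choose else 0
    have huc : ∀ p, Φ p = Φ p₀ → mact (wmt (uc p.2.1)) p₀.2.1 = p.2.1 := by
      intro p hp
      obtain ⟨y, hy⟩ := isConj_iff.1 (ConjClasses.mk_eq_mk_iff_isConj.1 (congrArg Subtype.val hp).symm)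
      have h1 := congrArg (emb F) hy
      simp only [map_mul, map_inv, hel] at h1
      have hyG : emb F y ∈ chevG2.group (AlgebraicClosure F) :=
        map_group_le chevG2 (algebraMap F (AlgebraicClosure F)) ⟨y, y.2, rfl⟩
      obtain ⟨j, hj⟩ := exists_weyl_of_conj hS hR (c := p₀.2.1) (c' := p.2.1)
        (y := (a p.1)⁻¹ * emb F y * a p₀.1)
        (group_eq hS ▸ mul_mem (mul_mem (inv_mem (ha p.1)) hyG) (ha p₀.1)) (by
          calc (a p.1)⁻¹ * emb F y * a p₀.1 * tauC hS hR p₀.2.1
              = (a p.1)⁻¹ * (emb F y * (a p₀.1 * tauC hS hR p₀.2.1 * (a p₀.1)⁻¹) * (emb F y)⁻¹) *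
                  (emb F y * a p₀.1) := by simp [mul_assoc]
            _ = _ := by rw [h1]; simp [mul_assoc])
      have hex : ∃ j, P p.2.1 j := ⟨j, hj⟩
      simp only [uc, dif_pos hex]
      exact hex.choose_spec
    refine le_trans (Finset.card_le_card_of_injOn (t := Finset.univ)
      (fun p => mu (uc p.2.1) (mu (iv p₀.1) (mu (iv (uc p.2.1)) (mu p.1 (uc p.2.1)))))
      (fun p _ => Finset.mem_univ _) ?_) (by simp)
    have hU : ∀ i j, U (mu i j) = U i * U j := fun i j => Units.ext (hmu i j)
    have hUi : ∀ i, U (iv i) = (U i)⁻¹ := fun i => eq_inv_of_mul_eq_one_left (Units.ext (hiv i).1)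
    have hinjq : Function.Injective fun c : Fin chevG2.rank → (AlgebraicClosure F)ˣ => c ^ q := by
      intro c d e
      funext j
      have e' := congrArg Units.val (congrFun e j)
      simp only [Pi.pow_apply, Units.val_pow_eq_pow_val] at e'
      refine Units.ext ?_
      obtain ⟨n, hn⟩ : ∃ n : ℕ, q = 2 ^ n := by
        obtain ⟨n, -, hn⟩ := FiniteField.card F 2
        exact ⟨n, hn⟩
      rw [hn] at e'
      exact (iterateFrobenius_inj (AlgebraicClosure F) 2 n) (by simpa [iterateFrobenius_def] using e')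
    have key : ∀ p, Φ p = Φ p₀ →
        mact (wmt (mu (uc p.2.1) (mu (iv p₀.1) (mu (iv (uc p.2.1)) (mu p.1 (uc p.2.1)))))) p₀.2.1 = p.2.1 := by
      intro p hp
      have e1 := huc p hp
      have e2 : mact (wmt p.1) p.2.1 = mact (wmt (uc p.2.1)) (mact (wmt p₀.1) p₀.2.1) := by
        refine hinjq ?_
        show mact (wmt p.1) p.2.1 ^ q = mact (wmt (uc p.2.1)) (mact (wmt p₀.1) p₀.2.1) ^ q
        rw [p.2.2, ← mact_npow, p₀.2.2, e1]
      simp only [hmu, ← mact_mul]
      rw [e1, e2]
      simp only [mact_mul, ← mul_assoc]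
      rw [mul_assoc (wmt (uc p.2.1) * wmt (iv p₀.1)) (wmt (iv (uc p.2.1))), (hiv _).1, mul_one,
        mul_assoc (wmt (uc p.2.1)), (hiv _).1, mul_one]
      exact e1
    intro p hp p' hp' e
    simp only [Finset.coe_filter, Finset.mem_univ, true_and, Set.mem_ofPred_eq] at hp hp'
    dsimp only at e
    have hc : p.2.1 = p'.2.1 := by rw [← key p hp, ← key p' hp', e]
    have hi : p.1 = p'.1 := by
      have h := congrArg U e
      simp only [hU, hUi, hc] at h
      refine wmt_inj _ _ (congrArg Units.val (?_ : U p.1 = U p'.1))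
      exact mul_right_cancel (mul_left_cancel (mul_left_cancel (mul_left_cancel h)))
    obtain ⟨i, c⟩ := p
    obtain ⟨i', c'⟩ := p'
    dsimp only at hi hc
    subst hi
    exact congrArg _ (Subtype.ext hc)
  have hcard : Fintype.card (Σ i, Fx (AlgebraicClosure F) q i) = 12 * q ^ 2 := by
    rw [← Nat.card_eq_fintype_card, Nat.card_sigma, ← sum_fxSize q hq1]
    exact Finset.sum_congr rfl fun i _ => card_fx q hq2 hq1 i
  have hcls : Fintype.card Cls = q ^ 2 := by
    rw [← Nat.card_eq_fintype_card]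
    have hF : Rules chevG2 F := Cfsg.Agent.Chev.validG2.rules Cfsg.Agent.Chev.lenValidG2 F
    have h := card_semisimple_classes hF 2 (by rw [Chev.FieldFix.rootKer_eq_bot unimodular, Subgroup.card_bot])
    exact h
  have hle : 12 * q ^ 2 ≤ 12 * (Finset.univ.image Φ).card := by
    rw [← hcard, ← Finset.card_univ]
    refine Finset.card_le_mul_card_image _ 12 fun b hb => ?_
    obtain ⟨p₀, -, rfl⟩ := Finset.mem_image.1 hb
    exact hfib p₀
  have hall : Finset.univ.image Φ = Finset.univ := by
    refine Finset.eq_univ_of_card _ (le_antisymm (Finset.card_le_univ _) ?_)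
    rw [hcls]
    omega
  obtain ⟨p, -, hp⟩ := Finset.mem_image.1 (hall ▸ Finset.mem_univ (⟨ConjClasses.mk g, g, rfl, hg⟩ : Cls))
  refine ⟨p.1, ?_⟩
  obtain ⟨y, hy⟩ := isConj_iff.1 (ConjClasses.mk_eq_mk_iff_isConj.1 (congrArg Subtype.val hp))
  rw [← hy, ← MulAut.conj_apply, MulEquiv.orderOf_eq, orderOf_image hS hR (hel p)]
  exact orderOf_dvd_of_pow_eq_one (fx_pow q hq1 p.1 p.2.1 p.2.2)

end Cfsg.Agent.G2Even
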