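import Cfsg.Agent.G2Even.Even
import Cfsg.Agent.G2Even.ToriMain
import Cfsg.Agent.Known.ChevCentInst
import Cfsg.Agent.Linear.Torus
import Cfsg.Agent.CentralExt.SL2

/-!
Element orders of `G₂(q)`, `q` even.
-/

set_option autoImplicit false
set_option linter.unusedSectionVars false
set_option linter.unusedSimpArgs false
set_option linter.style.haveILetI false

namespace Cfsg.Agent.G2Even

open Cfsg.Lie Cfsg.Agent.ChevGrp Matrix
open scoped MatrixGroups

variable {F : Type*} [Field F] [CharP F 2] {G : Type*} [Group G]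

/-- The subgroup `Q·φ(H)` for a homomorphism normalising `Q`. -/
def prodSub {H : Type*} [Group H] (φ : H →* G) (Q : Subgroup G)
    (h : ∀ A, ∀ q ∈ Q, ∃ q' ∈ Q, φ A * q = q' * φ A) : Subgroup G where
  carrier := {g | ∃ q ∈ Q, ∃ A, g = q * φ A}
  one_mem' := ⟨1, one_mem Q, 1, by simp⟩
  mul_mem' := by
    rintro _ _ ⟨q, hq, A, rfl⟩ ⟨r, hr, B, rfl⟩
    obtain ⟨r', hr', e⟩ := h A r hr
    refine ⟨q * r', mul_mem hq hr', A * B, ?_⟩
    rw [map_mul, mul_assoc, ← mul_assoc (φ A), e]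
    simp [mul_assoc]
  inv_mem' := by
    rintro _ ⟨q, hq, A, rfl⟩
    obtain ⟨q', hq', e⟩ := h A⁻¹ q⁻¹ (inv_mem hq)
    exact ⟨q', hq', A⁻¹, by rw [← e, _root_.mul_inv_rev, map_inv]⟩

variable (S : Sys chevG2 F G)

/-- The radical of the long root parabolic. -/
def Qlong : Subgroup G where
  carrier := {g | ∃ V k, g = elV S V k}
  one_mem' := ⟨0, 0, (elV_zero S).symm⟩
  mul_mem' := by
    rintro _ _ ⟨V, k, rfl⟩ ⟨W, l, rfl⟩
    exact ⟨_, _, elV_mul S V W k l⟩
  inv_mem' := by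
    rintro _ ⟨V, k, rfl⟩
    exact exists_elV_inv S V k

/-- An element of the group generated by the roots `9, 10, 11`. -/
def eS (d e k : F) : G := el S 0 0 0 d e k

theorem eS_mul (d e k d' e' k' : F) : eS S d e k * eS S d' e' k' = eS S (d + d') (e + e') (k + k') := by
  simp [eS, el_mul]

theorem eS_sq (d e k : F) : eS S d e k ^ 2 = 1 := by
  rw [pow_two, eS_mul]
  simp [eS, CharTwo.add_self_eq_zero, el_zero]

/-- The elementary abelian group on the roots `9, 10, 11`. -/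
def Qshort : Subgroup G where
  carrier := {g | ∃ d e k, g = eS S d e k}
  one_mem' := ⟨0, 0, 0, (el_zero S).symm⟩
  mul_mem' := by
    rintro _ _ ⟨d, e, k, rfl⟩ ⟨d', e', k', rfl⟩
    exact ⟨_, _, _, eS_mul S d e k d' e' k'⟩
  inv_mem' := by
    rintro _ ⟨d, e, k, rfl⟩
    exact ⟨d, e, k, by rw [inv_eq_iff_mul_eq_one, ← pow_two, eS_sq]⟩

theorem x6_law (t d e k : F) : S.x 6 t * eS S d e k = eS S d e (k + t * e) * S.x 6 t := by
  have e6 : S.x 6 t = el S 0 t 0 0 0 0 := by
    simp [el, S.x_zero (show 7 < chevG2.nroots by decide), S.x_zero (show 8 < chevG2.nroots by decide),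
      S.x_zero (show 9 < chevG2.nroots by decide), S.x_zero (show 10 < chevG2.nroots by decide),
      S.x_zero (show 11 < chevG2.nroots by decide)]
  simp only [e6, eS, el_mul]
  congr 1 <;> simp
  grind

theorem x5_law (t d e k : F) : S.x 5 t * eS S d e k = eS S d (e + t * k) k * S.x 5 t := by
  have z7 := S.x_zero (show 7 < chevG2.nroots by decide)
  have z6 := S.x_zero (show 6 < chevG2.nroots by decide)
  have z8 := S.x_zero (show 8 < chevG2.nroots by decide)
  have h9 : S.x 5 t * S.x 9 d = S.x 9 d * S.x 5 t := by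
    rw [conj_lo S 5 (by norm_num) (by norm_num) (by norm_num) (by decide +kernel) (L := [])
      (by decide +kernel) t d]
    simp
  have h10 : S.x 5 t * S.x 10 e = S.x 10 e * S.x 5 t := by
    rw [conj_lo S 5 (by norm_num) (by norm_num) (by norm_num) (by decide +kernel) (L := [])
      (by decide +kernel) t e]
    simp
  have h11 : S.x 5 t * S.x 11 k = S.x 11 k * S.x 10 (t * k) * S.x 5 t := by
    rw [conj_lo S 5 (by norm_num) (by norm_num) (by norm_num) (by decide +kernel) (L := [(10, 1, 1, 1)])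
      (by decide +kernel) t k]
    simp
  simp only [eS, el, z7, z6, z8, one_mul]
  rw [assoc_swap h9, mul_assoc, assoc_swap h10, mul_assoc, h11, ← x_mul S 10 (by norm_num)]
  simp only [mul_assoc]
  rw [assoc_swap (swapT10_11 S (t * k) k).symm]
  simp only [mul_assoc]

section Concrete

variable [Fintype F]

theorem exists_phi (hS : Rules chevG2 F) {r : ℕ} (hr : r < 12) :
    ∃ φ : SL(2, F) →* GL chevG2.Idx F,
      (∀ t, φ (up t) = (glSys hS).x r t) ∧ (∀ t, φ (lo t) = (glSys hS).x (chevG2.neg r) t) := by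
  obtain ⟨φ, -, h⟩ := Cfsg.Agent.Chev.validG2.exists_sl2 (F := F) (r := r) hr
  exact ⟨φ, fun t => (eq_xGL_iff hS _ r t).1 ((h _ t).1 rfl),
    fun t => (eq_xGL_iff hS _ _ t).1 ((h _ t).2 rfl)⟩

variable {len : ℕ → ℕ} (hS : Rules chevG2 F) (hR : RootTable chevG2 len)

include hS hR in
theorem long_cent (z g : GL chevG2.Idx F) (hz : (z : Matrix chevG2.Idx chevG2.Idx F) = chevG2.x F 11 1)
    (hg : g ∈ chevG2.group F) (hc : g * z = z * g) :
    g ^ 8 = 1 ∨ g ^ 12 = 1 ∨ g ^ (2 * (Fintype.card F - 1)) = 1 ∨ g ^ (2 * (Fintype.card F + 1)) = 1 := by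
  obtain ⟨φ, hu, hl⟩ := exists_phi hS (show 7 < 12 by norm_num)
  rw [show chevG2.neg 7 = 4 by decide +kernel] at hl
  set S := glSys hS
  have hnorm : ∀ A, ∀ q ∈ Qlong S, ∃ q' ∈ Qlong S, φ A * q = q' * φ A := by
    rintro A _ ⟨V, k, rfl⟩
    obtain ⟨k', e⟩ := phi_law S hu hl A V k
    exact ⟨_, ⟨_, _, rfl⟩, e⟩
  have hmem : g ∈ prodSub φ (Qlong S) hnorm := by
    have h : g ∈ chevG2.group F ⊓ Subgroup.centralizer {z} :=
      ⟨hg, Subgroup.mem_centralizer_singleton_iff.2 hc⟩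
    rw [Known.ChevCent.centralizer_top_one hS 11 1 [0] [4] (by decide +kernel) (by decide +kernel)
      (by decide +kernel) z hz] at h
    simp only [Known.ChevCent.closure_cons_eq, Known.ChevCent.closure_nil_eq, sup_bot_eq] at h
    revert h
    suffices chevG2.posUnipotent F ⊔ chevG2.rootSubgroup F 4 ≤ prodSub φ (Qlong S) hnorm from fun h => this h
    have z : ∀ r, r < chevG2.nroots → S.x r 0 = 1 := fun r hr => S.x_zero hr
    have inQ : ∀ V k, elV S V k ∈ prodSub φ (Qlong S) hnorm := fun V k => ⟨_, ⟨V, k, rfl⟩, 1, by simp⟩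
    have inφ : ∀ A, φ A ∈ prodSub φ (Qlong S) hnorm := fun A => ⟨1, one_mem _, A, by simp⟩
    refine sup_le ?_ ?_
    · rw [posUnipotent_eq hS, Sys.Ubar, Sys.US, Subgroup.closure_le]
      rintro _ ⟨r, hr, t, rfl⟩
      have hm := (enum_pos.2 r).2 hr
      simp only [List.mem_cons, List.not_mem_nil, or_false] at hm
      rcases hm with rfl | rfl | rfl | rfl | rfl | rfl
      · exact hu t ▸ inφ (up t)
      · convert inQ !![0, 0; 0, t] 0 using 1
        simp [elV, el, z 7 (by decide), z 8 (by decide), z 9 (by decide), z 10 (by decide), z 11 (by decide)]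
        rfl
      · convert inQ !![0, t; 0, 0] 0 using 1
        simp [elV, el, z 7 (by decide), z 6 (by decide), z 9 (by decide), z 10 (by decide), z 11 (by decide)]
        rfl
      · convert inQ !![0, 0; t, 0] 0 using 1
        simp [elV, el, z 7 (by decide), z 8 (by decide), z 6 (by decide), z 10 (by decide), z 11 (by decide)]
        rfl
      · convert inQ !![t, 0; 0, 0] 0 using 1
        simp [elV, el, z 7 (by decide), z 8 (by decide), z 9 (by decide), z 6 (by decide), z 11 (by decide)]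
        rfl
      · convert inQ 0 t using 1
        simp [elV, el, z 7 (by decide), z 8 (by decide), z 9 (by decide), z 10 (by decide), z 6 (by decide)]
        rfl
    · rw [rootSubgroup_eq hS, Sys.US, Subgroup.closure_le]
      rintro _ ⟨r, hr, t, rfl⟩
      rw [Set.mem_singleton_iff.1 hr]
      exact hl t ▸ inφ (lo t)
  obtain ⟨q, ⟨V, k, rfl⟩, A, rfl⟩ := hmem
  exact long_case S hu hl hR V k A

include hS in
theorem short_cent (z g : GL chevG2.Idx F) (hz : (z : Matrix chevG2.Idx chevG2.Idx F) = chevG2.x F 9 1)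
    (hg : g ∈ chevG2.group F) (hc : g * z = z * g) :
    g ^ 8 = 1 ∨ g ^ 12 = 1 ∨ g ^ (2 * (Fintype.card F - 1)) = 1 ∨ g ^ (2 * (Fintype.card F + 1)) = 1 := by
  obtain ⟨φ, hu, hl⟩ := exists_phi hS (show 6 < 12 by norm_num)
  rw [show chevG2.neg 6 = 5 by decide +kernel] at hl
  set S := glSys hS
  have hnorm : ∀ A, ∀ q ∈ Qshort S, ∃ q' ∈ Qshort S, φ A * q = q' * φ A := by
    intro A
    refine sl_ind (fun A => ∀ q ∈ Qshort S, ∃ q' ∈ Qshort S, φ A * q = q' * φ A) ?_ ?_ ?_ A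
    · rintro t _ ⟨d, e, k, rfl⟩
      exact ⟨_, ⟨_, _, _, rfl⟩, by rw [hu]; exact x6_law S t d e k⟩
    · rintro t _ ⟨d, e, k, rfl⟩
      exact ⟨_, ⟨_, _, _, rfl⟩, by rw [hl]; exact x5_law S t d e k⟩
    · intro A B hA hB q hq
      obtain ⟨q₁, hq₁, e₁⟩ := hB q hq
      obtain ⟨q₂, hq₂, e₂⟩ := hA q₁ hq₁
      exact ⟨q₂, hq₂, by rw [map_mul, mul_assoc, e₁, ← mul_assoc, e₂, mul_assoc]⟩
  have hmem : g ∈ prodSub φ (Qshort S) hnorm := by
    have h : g ∈ chevG2.group F ⊓ Subgroup.centralizer {z} :=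
      ⟨hg, Subgroup.mem_centralizer_singleton_iff.2 hc⟩
    rw [Known.ChevCent.centralizer_G2_short z hz] at h
    revert h
    suffices S.US {s | s ∈ [9, 10, 11, 6, 5]} ≤ prodSub φ (Qshort S) hnorm from fun h => this h
    have z : ∀ r, r < chevG2.nroots → S.x r 0 = 1 := fun r hr => S.x_zero hr
    have inQ : ∀ d e k, eS S d e k ∈ prodSub φ (Qshort S) hnorm := fun d e k =>
      ⟨_, ⟨d, e, k, rfl⟩, 1, by simp⟩
    have inφ : ∀ A, φ A ∈ prodSub φ (Qshort S) hnorm := fun A => ⟨1, one_mem _, A, by simp⟩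
    rw [Sys.US, Subgroup.closure_le]
    rintro _ ⟨r, hr, t, rfl⟩
    simp only [Set.mem_ofPred_eq, List.mem_cons, List.not_mem_nil, or_false] at hr
    rcases hr with rfl | rfl | rfl | rfl | rfl
    · convert inQ t 0 0 using 1
      simp [eS, el, z 7 (by decide), z 8 (by decide), z 6 (by decide), z 10 (by decide), z 11 (by decide)]
    · convert inQ 0 t 0 using 1
      simp [eS, el, z 7 (by decide), z 8 (by decide), z 6 (by decide), z 9 (by decide), z 11 (by decide)]
    · convert inQ 0 0 t using 1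
      simp [eS, el, z 7 (by decide), z 8 (by decide), z 6 (by decide), z 10 (by decide), z 9 (by decide)]
    · exact hu t ▸ inφ (up t)
    · exact hl t ▸ inφ (lo t)
  obtain ⟨q, hq, A, hg'⟩ := hmem
  have hpow : ∀ n, ∃ u ∈ Qshort S, g ^ n = u * φ (A ^ n) := by
    intro n
    induction n with
    | zero => exact ⟨1, one_mem _, by simp⟩
    | succ n ih =>
      obtain ⟨u, hu', e⟩ := ih
      obtain ⟨u', hu'', e'⟩ := hnorm A u hu'
      refine ⟨q * u', mul_mem hq hu'', ?_⟩
      rw [pow_succ', e, hg', mul_assoc, ← mul_assoc (φ A), e', mul_assoc, ← map_mul, ← pow_succ', ← mul_assoc]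
  have two : ∀ n, A ^ n = 1 → g ^ (n * 2) = 1 := fun n hn => by
    obtain ⟨u, ⟨d, e, k, rfl⟩, e'⟩ := hpow n
    rw [pow_mul, e', hn, map_one, mul_one, eS_sq]
  rcases sl_cases A with h | h | h
  · exact Or.inl (by rw [show 8 = 2 * 2 * 2 from rfl, pow_mul, two 2 h, one_pow])
  · exact Or.inr (Or.inr (Or.inl (by rw [mul_comm]; exact two _ h)))
  · exact Or.inr (Or.inr (Or.inr (by rw [mul_comm]; exact two _ h)))

include hS hR in
/-- Orders of elements of even order. -/
theorem even_order_dvd (g : GL chevG2.Idx F) (hg : g ∈ chevG2.group F) (h2 : 2 ∣ orderOf g) :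
    orderOf g ∣ 8 ∨ orderOf g ∣ 12 ∨ orderOf g ∣ 2 * (Fintype.card F - 1) ∨
      orderOf g ∣ 2 * (Fintype.card F + 1) := by
  classical
  haveI : Fact (Nat.Prime 2) := ⟨Nat.prime_two⟩
  simp only [orderOf_dvd_iff_pow_eq_one]
  obtain ⟨m, hm⟩ := h2
  have ho := orderOf_pos g
  have hm0 : m ≠ 0 := by omega
  have hz : orderOf (g ^ m) = 2 := by
    rw [orderOf_pow_of_dvd hm0 ⟨2, by rw [hm, mul_comm]⟩, hm, Nat.mul_div_cancel _ (by omega)]
  set S := glSys hS
  obtain ⟨hsq, hne⟩ := orderOf_eq_prime_iff.1 hz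
  have hG : chevG2.group F = S.Gbar := group_eq hS
  have hzG : g ^ m ∈ S.Gbar := hG ▸ pow_mem hg m
  have hz' : g ^ m ∈ S.PJ ((Finset.range chevG2.rank : Finset ℕ) : Set ℕ) := by
    rw [PJ_univ_eq hS hR]; exact hzG
  obtain ⟨x, hx⟩ := S.exists_conj_Ubar_PJ hS hR 2 (card_field_cast (F := F) 2)
    (fun h hh => Hbar_pow_card hS hR hh) (fun k hk => Finset.mem_range.1 hk) ⟨g ^ m, hz'⟩ 1
    (Subtype.ext (by simpa using hsq))
  have hxG : (x : GL chevG2.Idx F) ∈ S.Gbar := by
    rw [← PJ_univ_eq hS hR]; exact x.2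
  simp only [Subgroup.coe_mul, Subgroup.coe_inv] at hx
  obtain ⟨a, b, c, d, e, k, he⟩ := exists_el hR hx
  have h1 : Cj S (g ^ m) (el S a b c d e k) := ⟨x, hxG, by rw [← he, inv_mul_cancel_right]⟩
  have h2 := cj_root_of_el S hS hR (a := a) (b := b) (c := c) (d := d) (e := e) (k := k)
    (by rw [← he, ← pow_two, conj_pow, hsq, mul_one, mul_inv_cancel])
    (by rw [← he]; exact fun h => hne (conj_eq_one_iff.1 h))
  have fin : ∀ r, Cj S (g ^ m) (S.x r 1) →
      (∀ g' ∈ chevG2.group F, g' * S.x r 1 = S.x r 1 * g' → g' ^ 8 = 1 ∨ g' ^ 12 = 1 ∨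
        g' ^ (2 * (Fintype.card F - 1)) = 1 ∨ g' ^ (2 * (Fintype.card F + 1)) = 1) →
      g ^ 8 = 1 ∨ g ^ 12 = 1 ∨
        g ^ (2 * (Fintype.card F - 1)) = 1 ∨ g ^ (2 * (Fintype.card F + 1)) = 1 := by
    rintro r ⟨y, hy, e⟩ hcase
    have hzr : S.x r 1 = (y * g * y⁻¹) ^ m := by rw [conj_pow, e, mul_inv_cancel_right]
    have hyG : y ∈ chevG2.group F := hG ▸ hy
    have h := hcase (y * g * y⁻¹) (mul_mem (mul_mem hyG hg) (inv_mem hyG))
      (by rw [hzr, ← pow_succ', ← pow_succ])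
    simpa [conj_pow, conj_eq_one_iff] using h
  rcases h2 with h2 | h2
  · exact fin 11 (h1.trans S h2) fun g' hg' hc => long_cent hS hR _ g' (val_xGL hS 11 1) hg' hc
  · exact fin 9 (h1.trans S h2) fun g' hg' hc => short_cent hS _ g' (val_xGL hS 9 1) hg' hc

include hS hR in
/-- Witnesses of even order. -/
theorem exists_even_orders :
    (∃ g ∈ chevG2.group F, orderOf g = 8) ∧ (∃ g ∈ chevG2.group F, orderOf g = 12) ∧
      (∃ g ∈ chevG2.group F, orderOf g = 2 * (Fintype.card F - 1)) ∧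
      (∃ g ∈ chevG2.group F, orderOf g = 2 * (Fintype.card F + 1)) := by
  classical
  obtain ⟨φ, hu, hl⟩ := exists_phi hS (show 7 < 12 by norm_num)
  rw [show chevG2.neg 7 = 4 by decide +kernel] at hl
  set S := glSys hS
  have hG : chevG2.group F = S.Gbar := group_eq hS
  have hφ : ∀ A, φ A ∈ S.Gbar := fun A => by
    refine sl_ind (fun A => φ A ∈ S.Gbar) (fun t => ?_) (fun t => ?_) (fun A B hA hB => ?_) A
    · rw [hu]; exact x_mem S (by norm_num) t
    · rw [hl]; exact x_mem S (by norm_num) t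
    · rw [map_mul]; exact mul_mem hA hB
  have hV : ∀ V k, elV S V k ∈ S.Gbar := fun V k => el_mem S _ _ _ _ _ _
  rw [hG]
  refine ⟨⟨_, el_mem S _ _ _ _ _ _, exists_order_eight S hR⟩, ?_, ?_, ?_⟩
  · obtain ⟨V, k, A, h⟩ := exists_order_twelve S hu hl hR
    exact ⟨_, mul_mem (hV V k) (hφ A), h⟩
  all_goals
    have hq : 2 ∣ Fintype.card F := even_card
    have hq1 : 1 ≤ Fintype.card F := Fintype.card_pos
  · obtain ⟨A, -, hA, -⟩ := Cfsg.Agent.Linear.exists_split_torus (F := F)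
    exact ⟨_, mul_mem (hV 0 1) (hφ A), by
      rw [exists_order_double S hu hl hR A (by omega), hA]⟩
  · obtain ⟨A, hA, -⟩ := Cfsg.Agent.CentralExt.SL2.exists_norm_torus (F := F)
    exact ⟨_, mul_mem (hV 0 1) (hφ A), by
      rw [exists_order_double S hu hl hR A (by omega), hA]⟩

end Concrete

end Cfsg.Agent.G2Even
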