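import Cfsg.Agent.Lang.Torus
import Cfsg.Agent.Lang.TorusCheck
import Cfsg.Agent.ChevGrp.WeightCount
import Cfsg.Agent.Chev.Rules
import Cfsg.Prelude.Def_ChevG2

/-!
The twelve twisted tori of `G₂(q)`, `q` even, and the orders of the elements of odd order.
-/

set_option autoImplicit false
set_option linter.style.haveILetI false
set_option linter.unusedSectionVars false

namespace Cfsg.Agent.G2Even

open Cfsg.Lie Cfsg.Agent.ChevGrp Cfsg.Agent.Lang Matrix
open scoped MatrixGroups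

/-- Words for the twelve Weyl group elements. -/
def wwd : Fin 12 → List (Fin chevG2.rank) :=
  ![([] : List (Fin 2)), ([0] : List (Fin 2)), ([1] : List (Fin 2)), ([1,0] : List (Fin 2)), ([0,1] : List (Fin 2)), ([0,1,0] : List (Fin 2)), ([1,0,1] : List (Fin 2)), ([1,0,1,0] : List (Fin 2)), ([0,1,0,1] : List (Fin 2)), ([0,1,0,1,0] : List (Fin 2)), ([1,0,1,0,1] : List (Fin 2)), ([1,0,1,0,1,0] : List (Fin 2))]

/-- Their actions on the torus parameters. -/
def wmt : Fin 12 → Matrix (Fin chevG2.rank) (Fin chevG2.rank) ℤ :=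
  ![matL chevG2 [[1,0],[0,1]], matL chevG2 [[-1,1],[0,1]], matL chevG2 [[1,0],[3,-1]], matL chevG2 [[-1,1],[-3,2]], matL chevG2 [[2,-1],[3,-1]], matL chevG2 [[-2,1],[-3,2]], matL chevG2 [[2,-1],[3,-2]], matL chevG2 [[-2,1],[-3,1]], matL chevG2 [[1,-1],[3,-2]], matL chevG2 [[-1,0],[-3,1]], matL chevG2 [[1,-1],[0,-1]], matL chevG2 [[-1,0],[0,-1]]]

theorem wmt_word : ∀ i, (wmt i)ᵀ * wMat chevG2 (wwd i) = 1 := by decide +kernel

theorem wmt_mul : ∀ i j, ∃ k, wmt k = wmt i * wmt j := by decide +kernel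

theorem wmt_inv : ∀ i, ∃ j, wmt j * wmt i = 1 ∧ wmt i * wmt j = 1 := by decide +kernel

theorem wmt_inj : ∀ i j, wmt i = wmt j → i = j := by decide +kernel

theorem wMat_step : ∀ (l : Fin chevG2.rank) (i : Fin 12),
    ∃ k, reflMat chevG2 l * wMat chevG2 (wwd i) = wMat chevG2 (wwd k) := by decide +kernel

theorem exists_wmt (w : List (Fin chevG2.rank)) : ∃ i, (wmt i)ᵀ * wMat chevG2 w = 1 := by
  suffices h : ∃ i, wMat chevG2 (wwd i) = wMat chevG2 w by
    obtain ⟨i, hi⟩ := h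
    exact ⟨i, hi ▸ wmt_word i⟩
  induction w with
  | nil => exact ⟨0, rfl⟩
  | cons l w ih =>
    obtain ⟨i, hi⟩ := ih
    obtain ⟨k, hk⟩ := wMat_step l i
    exact ⟨k, by rw [← hk, hi]; rfl⟩

theorem unimodular : ∃ B : Fin chevG2.rank → Fin chevG2.rank → ℤ, ∀ i j : Fin chevG2.rank,
    ∑ l : Fin chevG2.rank, chevG2.cartan j (chevG2.simple l) * B l i = if j = i then 1 else 0 :=
  ⟨matL chevG2 [[2,3],[1,2]], by decide +kernel⟩

/-- The exponent of the torus with the given index. -/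
def expo (q : ℕ) : Fin 12 → ℕ :=
  ![q - 1, q ^ 2 - 1, q ^ 2 - 1, q ^ 2 + 1 - q, q ^ 2 + 1 - q, q ^ 2 - 1, q ^ 2 - 1, q ^ 2 + q + 1, q ^ 2 + q + 1, q ^ 2 - 1, q ^ 2 - 1, q + 1]

/-- The data of the torus with index 1. -/
def tor1 : TorusData chevG2 where
  w := wwd 1
  M := wmt 1
  P := matL chevG2 [[-1,0],[1,-1]]
  Q := matL chevG2 [[-1,0],[-1,-1]]
  a := vecL chevG2 [-1, 0]
  hM := wmt_word 1
  hPQ := by decide +kernel
  hQP := by decide +kernel
  hPM := by decide +kernel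
  pos := by decide +kernel

theorem ord1 (q : ℕ) : tor1.ord q = (-1) * (q : ℤ) ^ 2 + (0) * q + 1 := by
  rw [TorusData.ord]
  show 1 + (q : ℤ) * ∑ m : Fin 2, vecL chevG2 [-1, 0] m * (q : ℤ) ^ (2 - 1 - (m : ℕ)) = _
  simp [vecL, Fin.sum_univ_succ]
  all_goals ring

/-- The data of the torus with index 2. -/
def tor2 : TorusData chevG2 where
  w := wwd 2
  M := wmt 2
  P := matL chevG2 [[-1,1],[2,-1]]
  Q := matL chevG2 [[1,1],[2,1]]
  a := vecL chevG2 [-1, 0]
  hM := wmt_word 2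
  hPQ := by decide +kernel
  hQP := by decide +kernel
  hPM := by decide +kernel
  pos := by decide +kernel

theorem ord2 (q : ℕ) : tor2.ord q = (-1) * (q : ℤ) ^ 2 + (0) * q + 1 := by
  rw [TorusData.ord]
  show 1 + (q : ℤ) * ∑ m : Fin 2, vecL chevG2 [-1, 0] m * (q : ℤ) ^ (2 - 1 - (m : ℕ)) = _
  simp [vecL, Fin.sum_univ_succ]
  all_goals ring

/-- The data of the torus with index 3. -/
def tor3 : TorusData chevG2 where
  w := wwd 3
  M := wmt 3
  P := matL chevG2 [[-1,0],[1,-1]]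
  Q := matL chevG2 [[-1,0],[-1,-1]]
  a := vecL chevG2 [1, -1]
  hM := wmt_word 3
  hPQ := by decide +kernel
  hQP := by decide +kernel
  hPM := by decide +kernel
  pos := by decide +kernel

theorem ord3 (q : ℕ) : tor3.ord q = (1) * (q : ℤ) ^ 2 + (-1) * q + 1 := by
  rw [TorusData.ord]
  show 1 + (q : ℤ) * ∑ m : Fin 2, vecL chevG2 [1, -1] m * (q : ℤ) ^ (2 - 1 - (m : ℕ)) = _
  simp [vecL, Fin.sum_univ_succ]
  all_goals ring

/-- The data of the torus with index 4. -/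
def tor4 : TorusData chevG2 where
  w := wwd 4
  M := wmt 4
  P := matL chevG2 [[-1,0],[-2,1]]
  Q := matL chevG2 [[-1,0],[-2,1]]
  a := vecL chevG2 [1, -1]
  hM := wmt_word 4
  hPQ := by decide +kernel
  hQP := by decide +kernel
  hPM := by decide +kernel
  pos := by decide +kernel

theorem ord4 (q : ℕ) : tor4.ord q = (1) * (q : ℤ) ^ 2 + (-1) * q + 1 := by
  rw [TorusData.ord]
  show 1 + (q : ℤ) * ∑ m : Fin 2, vecL chevG2 [1, -1] m * (q : ℤ) ^ (2 - 1 - (m : ℕ)) = _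
  simp [vecL, Fin.sum_univ_succ]
  all_goals ring

/-- The data of the torus with index 5. -/
def tor5 : TorusData chevG2 where
  w := wwd 5
  M := wmt 5
  P := matL chevG2 [[-1,0],[2,-1]]
  Q := matL chevG2 [[-1,0],[-2,-1]]
  a := vecL chevG2 [-1, 0]
  hM := wmt_word 5
  hPQ := by decide +kernel
  hQP := by decide +kernel
  hPM := by decide +kernel
  pos := by decide +kernel

theorem ord5 (q : ℕ) : tor5.ord q = (-1) * (q : ℤ) ^ 2 + (0) * q + 1 := by
  rw [TorusData.ord]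
  show 1 + (q : ℤ) * ∑ m : Fin 2, vecL chevG2 [-1, 0] m * (q : ℤ) ^ (2 - 1 - (m : ℕ)) = _
  simp [vecL, Fin.sum_univ_succ]
  all_goals ring

/-- The data of the torus with index 6. -/
def tor6 : TorusData chevG2 where
  w := wwd 6
  M := wmt 6
  P := matL chevG2 [[-1,0],[-2,1]]
  Q := matL chevG2 [[-1,0],[-2,1]]
  a := vecL chevG2 [-1, 0]
  hM := wmt_word 6
  hPQ := by decide +kernel
  hQP := by decide +kernel
  hPM := by decide +kernel
  pos := by decide +kernel

theorem ord6 (q : ℕ) : tor6.ord q = (-1) * (q : ℤ) ^ 2 + (0) * q + 1 := by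
  rw [TorusData.ord]
  show 1 + (q : ℤ) * ∑ m : Fin 2, vecL chevG2 [-1, 0] m * (q : ℤ) ^ (2 - 1 - (m : ℕ)) = _
  simp [vecL, Fin.sum_univ_succ]
  all_goals ring

/-- The data of the torus with index 7. -/
def tor7 : TorusData chevG2 where
  w := wwd 7
  M := wmt 7
  P := matL chevG2 [[-1,0],[2,-1]]
  Q := matL chevG2 [[-1,0],[-2,-1]]
  a := vecL chevG2 [1, 1]
  hM := wmt_word 7
  hPQ := by decide +kernel
  hQP := by decide +kernel
  hPM := by decide +kernel
  pos := by decide +kernel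

theorem ord7 (q : ℕ) : tor7.ord q = (1) * (q : ℤ) ^ 2 + (1) * q + 1 := by
  rw [TorusData.ord]
  show 1 + (q : ℤ) * ∑ m : Fin 2, vecL chevG2 [1, 1] m * (q : ℤ) ^ (2 - 1 - (m : ℕ)) = _
  simp [vecL, Fin.sum_univ_succ]
  all_goals ring

/-- The data of the torus with index 8. -/
def tor8 : TorusData chevG2 where
  w := wwd 8
  M := wmt 8
  P := matL chevG2 [[-1,0],[-1,1]]
  Q := matL chevG2 [[-1,0],[-1,1]]
  a := vecL chevG2 [1, 1]
  hM := wmt_word 8
  hPQ := by decide +kernel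
  hQP := by decide +kernel
  hPM := by decide +kernel
  pos := by decide +kernel

theorem ord8 (q : ℕ) : tor8.ord q = (1) * (q : ℤ) ^ 2 + (1) * q + 1 := by
  rw [TorusData.ord]
  show 1 + (q : ℤ) * ∑ m : Fin 2, vecL chevG2 [1, 1] m * (q : ℤ) ^ (2 - 1 - (m : ℕ)) = _
  simp [vecL, Fin.sum_univ_succ]
  all_goals ring

/-- The data of the torus with index 9. -/
def tor9 : TorusData chevG2 where
  w := wwd 9
  M := wmt 9
  P := matL chevG2 [[-1,1],[-2,1]]
  Q := matL chevG2 [[1,-1],[2,-1]]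
  a := vecL chevG2 [-1, 0]
  hM := wmt_word 9
  hPQ := by decide +kernel
  hQP := by decide +kernel
  hPM := by decide +kernel
  pos := by decide +kernel

theorem ord9 (q : ℕ) : tor9.ord q = (-1) * (q : ℤ) ^ 2 + (0) * q + 1 := by
  rw [TorusData.ord]
  show 1 + (q : ℤ) * ∑ m : Fin 2, vecL chevG2 [-1, 0] m * (q : ℤ) ^ (2 - 1 - (m : ℕ)) = _
  simp [vecL, Fin.sum_univ_succ]
  all_goals ring

/-- The data of the torus with index 10. -/
def tor10 : TorusData chevG2 where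
  w := wwd 10
  M := wmt 10
  P := matL chevG2 [[-1,0],[-1,1]]
  Q := matL chevG2 [[-1,0],[-1,1]]
  a := vecL chevG2 [-1, 0]
  hM := wmt_word 10
  hPQ := by decide +kernel
  hQP := by decide +kernel
  hPM := by decide +kernel
  pos := by decide +kernel

theorem ord10 (q : ℕ) : tor10.ord q = (-1) * (q : ℤ) ^ 2 + (0) * q + 1 := by
  rw [TorusData.ord]
  show 1 + (q : ℤ) * ∑ m : Fin 2, vecL chevG2 [-1, 0] m * (q : ℤ) ^ (2 - 1 - (m : ℕ)) = _
  simp [vecL, Fin.sum_univ_succ]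
  all_goals ring

end Cfsg.Agent.G2Even
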