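import Cfsg.Agent.G2Even.ToriData

/-!
Every element of odd order of `G₂(q)`, `q` even, lies in one of the twelve twisted tori.
-/

set_option autoImplicit false
set_option linter.style.haveILetI false
set_option linter.unusedSectionVars false

namespace Cfsg.Agent.G2Even

open Cfsg.Lie Cfsg.Agent.ChevGrp Cfsg.Agent.Lang Matrix
open scoped MatrixGroups

variable {k : Type*} [Field k] {len : ℕ → ℕ}

/-- The parameters fixed by the twisted Frobenius. -/
def Fx (k : Type*) [Field k] (q : ℕ) (i : Fin 12) : Type _ :=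
  {c : Fin chevG2.rank → kˣ // mact (wmt i) c ^ q = c}

theorem card_rootsOfUnity_alg [IsAlgClosed k] (N : ℕ) (hN : (N : k) ≠ 0) :
    Nat.card ↥(rootsOfUnity N k) = N := by
  haveI : NeZero (N : k) := ⟨hN⟩
  haveI : NeZero N := ⟨fun h => hN (by rw [h, Nat.cast_zero])⟩
  exact HasEnoughRootsOfUnity.natCard_rootsOfUnity k N

/-- A cyclic torus as a group of roots of unity. -/
noncomputable def fxEquiv (T : TorusData chevG2) (q : ℕ) {M : Matrix (Fin chevG2.rank) (Fin chevG2.rank) ℤ}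
    (hM : T.M = M) : {c : Fin chevG2.rank → kˣ // mact M c ^ q = c} ≃ ↥(rootsOfUnity (T.ord q).natAbs k) :=
  (Equiv.ofBijective (fun x : ↥(rootsOfUnity (T.ord q).natAbs k) =>
      (⟨T.cx q (x : kˣ), hM ▸ (T.fixed_iff q _).2
        ⟨x, (pow_natAbs_eq_one).1 ((mem_rootsOfUnity _ _).1 x.2), rfl⟩⟩ :
          {c : Fin chevG2.rank → kˣ // mact M c ^ q = c}))
    ⟨fun x y e => Subtype.ext (by
        have := congrArg Subtype.val e
        dsimp only at this
        rw [← T.cx_P_last q (x : kˣ), this, T.cx_P_last]),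
      fun c => by
        obtain ⟨x, hx, e⟩ := (T.fixed_iff q c.1).1 (hM.symm ▸ c.2)
        exact ⟨⟨x, (mem_rootsOfUnity _ _).2 (pow_natAbs_eq_one.2 hx)⟩, Subtype.ext e⟩⟩).symm

theorem cx_pow (T : TorusData chevG2) (q : ℕ) (x : kˣ) : ∀ n : ℕ, T.cx q x ^ n = T.cx q (x ^ n)
  | 0 => by rw [pow_zero, pow_zero, T.cx_one]
  | n + 1 => by rw [pow_succ, pow_succ, cx_pow T q x n, T.cx_mul]

theorem fx_pow_cx (T : TorusData chevG2) (q : ℕ) {c : Fin chevG2.rank → kˣ} (hc : mact T.M c ^ q = c) :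
    c ^ (T.ord q).natAbs = 1 := by
  obtain ⟨x, hx, rfl⟩ := (T.fixed_iff q c).1 hc
  rw [cx_pow, pow_natAbs_eq_one.2 hx, T.cx_one]

theorem exists_cx_order [IsAlgClosed k] (T : TorusData chevG2) (q : ℕ) (hN : ((T.ord q).natAbs : k) ≠ 0) :
    ∃ c : Fin chevG2.rank → kˣ, mact T.M c ^ q = c ∧ orderOf c = (T.ord q).natAbs := by
  haveI : NeZero ((T.ord q).natAbs : k) := ⟨hN⟩
  have h0 : (T.ord q).natAbs ≠ 0 := fun h => hN (by rw [h, Nat.cast_zero])
  haveI : NeZero (T.ord q).natAbs := ⟨h0⟩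
  obtain ⟨z, hz⟩ := HasEnoughRootsOfUnity.exists_primitiveRoot k (T.ord q).natAbs
  have hu := hz.isUnit_unit h0
  refine ⟨T.cx q (hz.isUnit h0).unit, (T.fixed_iff q _).2 ⟨_, pow_natAbs_eq_one.1 hu.pow_eq_one, rfl⟩, ?_⟩
  let f : kˣ →* (Fin chevG2.rank → kˣ) := MonoidHom.mk' (T.cx q) (T.cx_mul q)
  rw [show T.cx q (hz.isUnit h0).unit = f (hz.isUnit h0).unit from rfl,
    orderOf_injective f (fun x y e => by
      rw [← T.cx_P_last q x, show T.cx q x = T.cx q y from e, T.cx_P_last])]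
  exact hu.eq_orderOf.symm

theorem natAbs_ord_eq {z : ℤ} {n : ℕ} (h : z = n ∨ z = -(n : ℤ)) : z.natAbs = n := by
  rcases h with rfl | rfl <;> simp

theorem nat_ord1 (q : ℕ) (hq : 1 ≤ q) : (tor1.ord q).natAbs = q ^ 2 - 1 := by
  refine natAbs_ord_eq ?_
  have h : q ≤ q ^ 2 + 1 := by nlinarith
  rw [ord1]
  right
  rw [Nat.cast_sub (Nat.one_le_pow 2 q hq)]
  push_cast
  ring

theorem nat_ord2 (q : ℕ) (hq : 1 ≤ q) : (tor2.ord q).natAbs = q ^ 2 - 1 := by
  refine natAbs_ord_eq ?_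
  have h : q ≤ q ^ 2 + 1 := by nlinarith
  rw [ord2]
  right
  rw [Nat.cast_sub (Nat.one_le_pow 2 q hq)]
  push_cast
  ring

theorem nat_ord3 (q : ℕ) (hq : 1 ≤ q) : (tor3.ord q).natAbs = q ^ 2 + 1 - q := by
  refine natAbs_ord_eq ?_
  have h : q ≤ q ^ 2 + 1 := by nlinarith
  rw [ord3]
  left
  rw [Nat.cast_sub h]
  push_cast
  ring

theorem nat_ord4 (q : ℕ) (hq : 1 ≤ q) : (tor4.ord q).natAbs = q ^ 2 + 1 - q := by
  refine natAbs_ord_eq ?_
  have h : q ≤ q ^ 2 + 1 := by nlinarith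
  rw [ord4]
  left
  rw [Nat.cast_sub h]
  push_cast
  ring

theorem nat_ord5 (q : ℕ) (hq : 1 ≤ q) : (tor5.ord q).natAbs = q ^ 2 - 1 := by
  refine natAbs_ord_eq ?_
  have h : q ≤ q ^ 2 + 1 := by nlinarith
  rw [ord5]
  right
  rw [Nat.cast_sub (Nat.one_le_pow 2 q hq)]
  push_cast
  ring

theorem nat_ord6 (q : ℕ) (hq : 1 ≤ q) : (tor6.ord q).natAbs = q ^ 2 - 1 := by
  refine natAbs_ord_eq ?_
  have h : q ≤ q ^ 2 + 1 := by nlinarith
  rw [ord6]
  right
  rw [Nat.cast_sub (Nat.one_le_pow 2 q hq)]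
  push_cast
  ring

theorem nat_ord7 (q : ℕ) (hq : 1 ≤ q) : (tor7.ord q).natAbs = q ^ 2 + q + 1 := by
  refine natAbs_ord_eq ?_
  have h : q ≤ q ^ 2 + 1 := by nlinarith
  rw [ord7]
  left
  push_cast
  ring

theorem nat_ord8 (q : ℕ) (hq : 1 ≤ q) : (tor8.ord q).natAbs = q ^ 2 + q + 1 := by
  refine natAbs_ord_eq ?_
  have h : q ≤ q ^ 2 + 1 := by nlinarith
  rw [ord8]
  left
  push_cast
  ring

theorem nat_ord9 (q : ℕ) (hq : 1 ≤ q) : (tor9.ord q).natAbs = q ^ 2 - 1 := by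
  refine natAbs_ord_eq ?_
  have h : q ≤ q ^ 2 + 1 := by nlinarith
  rw [ord9]
  right
  rw [Nat.cast_sub (Nat.one_le_pow 2 q hq)]
  push_cast
  ring

theorem nat_ord10 (q : ℕ) (hq : 1 ≤ q) : (tor10.ord q).natAbs = q ^ 2 - 1 := by
  refine natAbs_ord_eq ?_
  have h : q ≤ q ^ 2 + 1 := by nlinarith
  rw [ord10]
  right
  rw [Nat.cast_sub (Nat.one_le_pow 2 q hq)]
  push_cast
  ring

variable [IsAlgClosed k]

theorem scalar_facts (q : ℕ) (hq : 1 ≤ q) (c : Fin chevG2.rank → kˣ) :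
    (mact (wmt 0) c ^ q = c ↔ ∀ j, c j ^ (q - 1) = 1) ∧
      (mact (wmt 11) c ^ q = c ↔ ∀ j, c j ^ (q + 1) = 1) := by
  have e0 : wmt 0 = 1 := by decide +kernel
  have e11 : wmt 11 = -1 := by decide +kernel
  have hneg : mact (-1 : Matrix (Fin chevG2.rank) (Fin chevG2.rank) ℤ) c = c⁻¹ := funext fun j => by
    show chr ((-1 : Matrix (Fin chevG2.rank) (Fin chevG2.rank) ℤ) j) c = (c j)⁻¹
    rw [show (-1 : Matrix (Fin chevG2.rank) (Fin chevG2.rank) ℤ) j = (-1 : ℤ) • Pi.single j 1 from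
      funext fun l => by
        simp only [Matrix.neg_apply, Matrix.one_apply, Pi.smul_apply, Pi.single_apply, smul_eq_mul, neg_one_mul]
        by_cases h : j = l <;> simp [h, eq_comm]]
    rw [chr_smul, chr_single, _root_.zpow_neg, zpow_one]
  refine ⟨?_, ?_⟩
  · rw [e0, mact_one, funext_iff]
    refine forall_congr' fun j => ?_
    rw [Pi.pow_apply]
    conv_lhs => rw [show q = q - 1 + 1 by omega, pow_succ]
    exact mul_eq_right
  · rw [e11, hneg, funext_iff]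
    refine forall_congr' fun j => ?_
    rw [Pi.pow_apply, Pi.inv_apply, inv_pow, inv_eq_iff_mul_eq_one, ← pow_succ]

noncomputable def fxPi (q n : ℕ) {i : Fin 12} (h : ∀ c : Fin chevG2.rank → kˣ, mact (wmt i) c ^ q = c ↔ ∀ j, c j ^ n = 1) :
    Fx k q i ≃ (Fin chevG2.rank → ↥(rootsOfUnity n k)) :=
  (Equiv.subtypeEquivRight fun c => by simpa [mem_rootsOfUnity] using h c).trans
    (Equiv.subtypePiEquivPi (p := fun _ (x : kˣ) => x ∈ rootsOfUnity n k))

theorem cast_expo_ne_zero [CharP k 2] (q : ℕ) (hq : 2 ∣ q) (hq1 : 1 ≤ q) (i : Fin 12) :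
    (expo q i : k) ≠ 0 := by
  intro h
  have h' : 2 ∣ expo q i := (CharP.cast_eq_zero_iff k 2 _).1 h
  obtain ⟨r, rfl⟩ := hq
  have h2 : (2 * r) ^ 2 = 2 * (2 * r * r) := by ring
  have h3 : 1 ≤ r * r := by nlinarith
  have h4 : r ≤ r * r := Nat.le_mul_self r
  fin_cases i <;> simp [expo, h2] at h' <;> (rw [Nat.mul_assoc] at *) <;> omega

theorem fx_pow (q : ℕ) (hq : 1 ≤ q) : ∀ (i : Fin 12) (c : Fin chevG2.rank → kˣ),
    mact (wmt i) c ^ q = c → c ^ expo q i = 1 := by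
  intro i c hc
  fin_cases i
  · exact funext ((scalar_facts q hq c).1.1 hc)
  · show c ^ expo q 1 = 1
    rw [show expo q 1 = (tor1.ord q).natAbs from (nat_ord1 q hq).symm]
    exact fx_pow_cx tor1 q hc
  · show c ^ expo q 2 = 1
    rw [show expo q 2 = (tor2.ord q).natAbs from (nat_ord2 q hq).symm]
    exact fx_pow_cx tor2 q hc
  · show c ^ expo q 3 = 1
    rw [show expo q 3 = (tor3.ord q).natAbs from (nat_ord3 q hq).symm]
    exact fx_pow_cx tor3 q hc
  · show c ^ expo q 4 = 1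
    rw [show expo q 4 = (tor4.ord q).natAbs from (nat_ord4 q hq).symm]
    exact fx_pow_cx tor4 q hc
  · show c ^ expo q 5 = 1
    rw [show expo q 5 = (tor5.ord q).natAbs from (nat_ord5 q hq).symm]
    exact fx_pow_cx tor5 q hc
  · show c ^ expo q 6 = 1
    rw [show expo q 6 = (tor6.ord q).natAbs from (nat_ord6 q hq).symm]
    exact fx_pow_cx tor6 q hc
  · show c ^ expo q 7 = 1
    rw [show expo q 7 = (tor7.ord q).natAbs from (nat_ord7 q hq).symm]
    exact fx_pow_cx tor7 q hc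
  · show c ^ expo q 8 = 1
    rw [show expo q 8 = (tor8.ord q).natAbs from (nat_ord8 q hq).symm]
    exact fx_pow_cx tor8 q hc
  · show c ^ expo q 9 = 1
    rw [show expo q 9 = (tor9.ord q).natAbs from (nat_ord9 q hq).symm]
    exact fx_pow_cx tor9 q hc
  · show c ^ expo q 10 = 1
    rw [show expo q 10 = (tor10.ord q).natAbs from (nat_ord10 q hq).symm]
    exact fx_pow_cx tor10 q hc
  · exact funext ((scalar_facts q hq c).2.1 hc)

/-- The size of the torus with the given index. -/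
def fxSize (q : ℕ) (i : Fin 12) : ℕ := if i = 0 ∨ i = 11 then expo q i ^ 2 else expo q i

theorem card_fx [CharP k 2] (q : ℕ) (hq : 2 ∣ q) (hq1 : 1 ≤ q) : ∀ i : Fin 12, Nat.card (Fx k q i) = fxSize q i := by
  intro i
  have hne := cast_expo_ne_zero (k := k) q hq hq1 i
  fin_cases i
  · show Nat.card (Fx k q 0) = fxSize q 0
    rw [Nat.card_congr (fxPi q (q - 1) fun c => (scalar_facts q hq1 c).1), Nat.card_fun,
      card_rootsOfUnity_alg (q - 1) hne, Nat.card_eq_fintype_card, Fintype.card_fin]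
    rfl
  · show Nat.card (Fx k q 1) = fxSize q 1
    rw [show Nat.card (Fx k q 1) = _ from Nat.card_congr (fxEquiv tor1 q rfl), nat_ord1 q hq1]
    exact card_rootsOfUnity_alg _ hne
  · show Nat.card (Fx k q 2) = fxSize q 2
    rw [show Nat.card (Fx k q 2) = _ from Nat.card_congr (fxEquiv tor2 q rfl), nat_ord2 q hq1]
    exact card_rootsOfUnity_alg _ hne
  · show Nat.card (Fx k q 3) = fxSize q 3
    rw [show Nat.card (Fx k q 3) = _ from Nat.card_congr (fxEquiv tor3 q rfl), nat_ord3 q hq1]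
    exact card_rootsOfUnity_alg _ hne
  · show Nat.card (Fx k q 4) = fxSize q 4
    rw [show Nat.card (Fx k q 4) = _ from Nat.card_congr (fxEquiv tor4 q rfl), nat_ord4 q hq1]
    exact card_rootsOfUnity_alg _ hne
  · show Nat.card (Fx k q 5) = fxSize q 5
    rw [show Nat.card (Fx k q 5) = _ from Nat.card_congr (fxEquiv tor5 q rfl), nat_ord5 q hq1]
    exact card_rootsOfUnity_alg _ hne
  · show Nat.card (Fx k q 6) = fxSize q 6
    rw [show Nat.card (Fx k q 6) = _ from Nat.card_congr (fxEquiv tor6 q rfl), nat_ord6 q hq1]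
    exact card_rootsOfUnity_alg _ hne
  · show Nat.card (Fx k q 7) = fxSize q 7
    rw [show Nat.card (Fx k q 7) = _ from Nat.card_congr (fxEquiv tor7 q rfl), nat_ord7 q hq1]
    exact card_rootsOfUnity_alg _ hne
  · show Nat.card (Fx k q 8) = fxSize q 8
    rw [show Nat.card (Fx k q 8) = _ from Nat.card_congr (fxEquiv tor8 q rfl), nat_ord8 q hq1]
    exact card_rootsOfUnity_alg _ hne
  · show Nat.card (Fx k q 9) = fxSize q 9
    rw [show Nat.card (Fx k q 9) = _ from Nat.card_congr (fxEquiv tor9 q rfl), nat_ord9 q hq1]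
    exact card_rootsOfUnity_alg _ hne
  · show Nat.card (Fx k q 10) = fxSize q 10
    rw [show Nat.card (Fx k q 10) = _ from Nat.card_congr (fxEquiv tor10 q rfl), nat_ord10 q hq1]
    exact card_rootsOfUnity_alg _ hne
  · show Nat.card (Fx k q 11) = fxSize q 11
    rw [Nat.card_congr (fxPi q (q + 1) fun c => (scalar_facts q hq1 c).2), Nat.card_fun,
      card_rootsOfUnity_alg (q + 1) hne, Nat.card_eq_fintype_card, Fintype.card_fin]
    rfl

theorem sum_fxSize (q : ℕ) (hq : 1 ≤ q) : ∑ i, fxSize q i = 12 * q ^ 2 := by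
  obtain ⟨r, rfl⟩ : ∃ r, q = r + 1 := ⟨q - 1, by omega⟩
  have a : r + 1 - 1 = r := by omega
  have b : (r + 1) ^ 2 - 1 = r ^ 2 + 2 * r := by
    have : (r + 1) ^ 2 = r ^ 2 + 2 * r + 1 := by ring
    omega
  have c : (r + 1) ^ 2 + 1 - (r + 1) = r ^ 2 + r + 1 := by
    have : (r + 1) ^ 2 = r ^ 2 + 2 * r + 1 := by ring
    omega
  simp [fxSize, expo, Fin.sum_univ_succ, a, b, c]
  ring

section Conj

variable (hS : Rules chevG2 k) (hR : RootTable chevG2 len)

include hS hR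

theorem nW_tau {w : List (Fin chevG2.rank)} {M : Matrix (Fin chevG2.rank) (Fin chevG2.rank) ℤ}
    (hM : Mᵀ * wMat chevG2 w = 1) (c : Fin chevG2.rank → kˣ) :
    (glSys hS).nW w * tauC hS hR c = tauC hS hR (mact M c) * (glSys hS).nW w := by
  obtain ⟨d, hd⟩ := exists_tauC hS hR ((glSys hS).nW_conj_Hbar hS hR w (tauC_mem hS hR c))
  have e : (glSys hS).nW w * tauC hS hR c = tauC hS hR d * (glSys hS).nW w := by
    rw [hd, inv_mul_cancel_right]
  suffices d * (mact M c)⁻¹ = 1 by rw [mul_inv_eq_one] at this; rw [e, this]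
  have hmem : d * (mact M c)⁻¹ ∈ rootKer chevG2 k := by
    rw [mem_rootKer_iff]
    intro l
    obtain ⟨s, hs, hact⟩ := act_surj hR w (hR.simple_lt l l.2)
    rw [← hact, chr_mul, chr_inv, chr_of_conj hS hR w e hs, chr_mact, kap_act hR w hs,
      ← Matrix.mulVec_transpose, Matrix.mulVec_mulVec, hM, Matrix.one_mulVec, mul_inv_cancel]
  rwa [Chev.FieldFix.rootKer_eq_bot unimodular, Subgroup.mem_bot] at hmem

/-- Conjugate diagonal elements differ by a Weyl group element. -/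
theorem exists_weyl_of_conj {c c' : Fin chevG2.rank → kˣ} {y : GL chevG2.Idx k} (hy : y ∈ (glSys hS).Gbar)
    (e : y * tauC hS hR c = tauC hS hR c' * y) : ∃ i, mact (wmt i) c = c' := by
  obtain ⟨b, hb, w, -, v, hv, rfl⟩ := (glSys hS).mem_NF hS hR hy
  obtain ⟨u, hu, h₁, hh₁, rfl⟩ := ((glSys hS).mem_Bbar hS hR).1 hb
  obtain ⟨i, hi⟩ := exists_wmt w
  have hn := nW_tau hS hR hi c
  obtain ⟨h, hhdef⟩ : ∃ h, h = tauC hS hR c := ⟨_, rfl⟩
  obtain ⟨h', hh'def⟩ : ∃ h', h' = tauC hS hR c' := ⟨_, rfl⟩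
  obtain ⟨m, hmdef⟩ : ∃ m, m = tauC hS hR (mact (wmt i) c) := ⟨_, rfl⟩
  obtain ⟨n, hndef⟩ : ∃ n, n = (glSys hS).nW w := ⟨_, rfl⟩
  rw [← hhdef, ← hh'def, ← hndef] at e
  rw [← hhdef, ← hmdef, ← hndef] at hn
  have hh : h ∈ (glSys hS).Hbar := hhdef ▸ tauC_mem hS hR c
  have hh' : h' ∈ (glSys hS).Hbar := hh'def ▸ tauC_mem hS hR c'
  have hm : m ∈ (glSys hS).Hbar := hmdef ▸ tauC_mem hS hR _
  have hu' : h' * u * h'⁻¹ ∈ (glSys hS).Ubar := hh'def ▸ conj_US hS hR c' (fun r hr => hr.1) hu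
  have hv' : h * v * h⁻¹ ∈ (glSys hS).US (invSet chevG2 w) := hhdef ▸ conj_US hS hR c (fun r hr => hr.1.1) hv
  have hb' : h' * h₁ * m⁻¹ ∈ (glSys hS).Hbar := mul_mem (mul_mem hh' hh₁) (inv_mem hm)
  have e1 : (h' * u * h'⁻¹) * (h' * h₁ * m⁻¹) * n * (h * v * h⁻¹) = u * h₁ * n * v := by
    calc _ = h' * u * h₁ * m⁻¹ * (n * h) * (v * h⁻¹) := by simp [mul_assoc]
      _ = h' * (u * h₁ * n * v) * h⁻¹ := by rw [hn]; simp [mul_assoc]
      _ = _ := by rw [← e, mul_inv_cancel_right]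
  rw [hndef] at e1
  obtain ⟨e2, -⟩ := ((glSys hS).bruhat_unique hS hR
    (mul_mem ((glSys hS).Ubar_le_Bbar hu') ((glSys hS).Hbar_le_Bbar hb')) hb hv' hv e1).2 rfl
  obtain ⟨-, e4⟩ := (glSys hS).Bbar_decomp_unique hS hR hu' hu hb' hh₁ e2
  refine ⟨i, tauC_injective hS hR unimodular ?_⟩
  rw [← hmdef, ← hh'def]
  have := glSys_Hbar_comm hS hR h' hh' h₁ hh₁
  rw [this, mul_assoc, mul_eq_left, mul_inv_eq_one] at e4
  exact e4.symm

end Conj

end Cfsg.Agent.G2Even
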